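import Groth.Agent.GrMod.Veronese.CanonicalConstruct
import Groth.Agent.GrMod.CMStarLocal
import Groth.Agent.GrMod.Irrelevant
import Groth.Agent.GrMod.CanonicalCM
import Groth.Agent.GrMod.RegSeq
import Groth.Agent.GrMod.Res
import Groth.Agent.Gorenstein.Regular

/-!
# Gorenstein Veronese subrings

Helper library (no milestone statements here).
-/

universe u

open DirectSum GrLC

namespace GrothGr

/-- Gorenstein rings are Cohen–Macaulay. -/
theorem isCohenMacaulayRing_of_gorenstein (R : Type u) [CommRing R] [LocCoh.IsGorensteinRing R] :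
    LocCoh.IsCohenMacaulayRing R :=
  ⟨fun p _ => by
    haveI := LocCoh.IsGorensteinRing.isGorensteinLocalRing_localization (A := R) p
    exact GrothGoren.isCohenMacaulay _ ((GrothGoren.isGorenstein_iff _).1 inferInstance)⟩

/-- A graded module with shifted degrees. -/
theorem gradedSMul_shiftPc {R : Type u} [CommRing R] (𝒜 : ℤ → AddSubgroup R) [GradedRing 𝒜] (c : ℤ)
    {M : Type u} [AddCommGroup M] [Module R M] (ℳ : ℤ → AddSubgroup M) [Decomposition ℳ]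
    [SetLike.GradedSMul 𝒜 ℳ] : SetLike.GradedSMul 𝒜 (shiftPc ℳ c) :=
  ⟨fun {a g r x} hr hx => by
    show r • x ∈ ℳ (a + g - c)
    rw [add_sub_assoc]
    exact smul_mem ℳ 𝒜 hr hx⟩

namespace Vero

variable {R : Type u} [CommRing R] {𝒜 : ℤ → AddSubgroup R} [GradedRing 𝒜]
variable {R' : Type u} [CommRing R'] {𝒜' : ℤ → AddSubgroup R'} [GradedRing 𝒜'] {ψ : R' →+* R}
variable {q : ℕ}

/-- Veronese subrings of Cohen–Macaulay graded rings are Cohen–Macaulay. -/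
theorem isCohenMacaulayRing_vero [LocCoh.IsCohenMacaulayRing R] (hV : IsVeroRing 𝒜 𝒜' ψ q)
    (hpos : ∀ n : ℤ, n < 0 → 𝒜 n = ⊥) (h0 : IsField (GrLC.deg0 𝒜))
    {m : HomogeneousIdeal 𝒜} (hm : IsStarLocal 𝒜 m)
    (hmsp : m.toIdeal = Ideal.span (⋃ n ∈ Set.Ioi (0 : ℤ), (𝒜 n : Set R)))
    {n : ℕ} (hn : ringKrullDim R = n) : LocCoh.IsCohenMacaulayRing R' := by
  haveI := hV.isNoetherianRing
  haveI := isMaximal_irrelevant 𝒜 hpos h0 hm hmsp
  have hpos' : ∀ n : ℤ, n < 0 → 𝒜' n = ⊥ := fun _ hn => pos_of_vero hV hpos hn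
  have h0' := isField_deg0_vero hV h0
  have hm' := isStarLocal_irrIdeal 𝒜' hpos' h0'
  haveI := isMaximal_irrelevant 𝒜' hpos' h0' hm' rfl
  let I := starRes 𝒜 𝒜
  refine isCohenMacaulayRing_of_subsingleton_H hm' ((ringKrullDim_vero hV hpos).trans hn)
    (starRes 𝒜' 𝒜') fun i hi => ?_
  obtain ⟨γ, hγ⟩ := exists_vero_H hV hmsp (irrIdeal_toIdeal 𝒜') I (isVero_ring hV) (starRes 𝒜' 𝒜') i
  haveI := subsingleton_H_self_of_lt hm hn I hi
  exact hγ.inj.subsingleton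

/-- The shift `R(a(R))` is canonical for a Gorenstein graded ring over a field. -/
theorem isStarCanonical_shift [LocCoh.IsGorensteinRing R]
    (hpos : ∀ n : ℤ, n < 0 → 𝒜 n = ⊥) (h0 : IsField (GrLC.deg0 𝒜))
    {m : HomogeneousIdeal 𝒜} (hm : IsStarLocal 𝒜 m)
    (hmsp : m.toIdeal = Ideal.span (⋃ n ∈ Set.Ioi (0 : ℤ), (𝒜 n : Set R)))
    {n : ℕ} (hn : ringKrullDim R = n) {I : StarInjRes 𝒜 𝒜} {a : ℤ}
    (ha : endDeg (I.Hgr m n) = ((a : WithTop ℤ) : WithBot (WithTop ℤ)))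
    {E' : Type u} [AddCommGroup E'] [Module R E'] {𝓔 : ℤ → AddSubgroup E'} [Decomposition 𝓔]
    [SetLike.GradedSMul 𝒜 𝓔] {e : (R ⧸ m.toIdeal) →ₗ[R] E'}
    (he : IsStarInjHull 𝒜 (quotGr 𝒜 m) 𝓔 e) [Decomposition (shiftPc 𝒜 (-a))]
    [SetLike.GradedSMul 𝒜 (shiftPc 𝒜 (-a))] :
    IsStarCanonical 𝒜 (shiftPc 𝒜 (-a)) 𝓔 m n I := by
  haveI := isMaximal_irrelevant 𝒜 hpos h0 hm hmsp
  obtain ⟨c, φ, hφ⟩ := exists_top_H_equiv 𝒜 hm
    (LocCoh.IsGorensteinRing.isGorensteinLocalRing_localization m.toIdeal) n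
    (height_eq_of_ringKrullDim 𝒜 hm hn) I he
  letI := (shiftPc_isInternal 𝒜 c).chooseDecomposition
  haveI := gradedSMul_shiftPc 𝒜 c 𝒜
  have hC := isStarCanonical_of_top_H_equiv (n := n) (I := I) (m := m) φ hφ
  have h1 := endDeg_top_of_free hpos hmsp (ne_top_of_isStarLocal 𝒜 hm) he hC (a := c)
    (f := LinearMap.id) Function.bijective_id (fun i x hx => by
      show x ∈ 𝒜 (i + c - c)
      rwa [add_sub_cancel_right])
  rw [ha] at h1
  have hac : a = -c := WithTop.coe_inj.1 (WithBot.coe_inj.1 h1)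
  obtain rfl : c = -a := by omega
  exact isStarCanonical_of_top_H_equiv φ hφ

/-- `R^(q)` is Gorenstein when `q ∣ a(R)`. -/
theorem isGorensteinRing_vero_of_dvd [LocCoh.IsGorensteinRing R] (hV : IsVeroRing 𝒜 𝒜' ψ q)
    (hpos : ∀ n : ℤ, n < 0 → 𝒜 n = ⊥) (h0 : IsField (GrLC.deg0 𝒜))
    {m : HomogeneousIdeal 𝒜} (hm : IsStarLocal 𝒜 m)
    (hmsp : m.toIdeal = Ideal.span (⋃ n ∈ Set.Ioi (0 : ℤ), (𝒜 n : Set R)))
    {n : ℕ} (hn : ringKrullDim R = n) {I : StarInjRes 𝒜 𝒜} {a : ℤ}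
    (ha : endDeg (I.Hgr m n) = ((a : WithTop ℤ) : WithBot (WithTop ℤ))) (hdvd : (q : ℤ) ∣ a) :
    LocCoh.IsGorensteinRing R' := by
  haveI := isCohenMacaulayRing_of_gorenstein R
  haveI := isCohenMacaulayRing_vero hV hpos h0 hm hmsp hn
  have hpos' : ∀ n : ℤ, n < 0 → 𝒜' n = ⊥ := fun _ hn => pos_of_vero hV hpos hn
  have h0' := isField_deg0_vero hV h0
  have hm' := isStarLocal_irrIdeal 𝒜' hpos' h0'
  haveI := isMaximal_irrelevant 𝒜' hpos' h0' hm' rfl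
  obtain ⟨E, e, he⟩ := exists_starInjHull 𝒜 (quotGr 𝒜 m)
  obtain ⟨E'', e', he'⟩ := exists_starInjHull 𝒜' (quotGr 𝒜' (irrIdeal 𝒜'))
  obtain ⟨a', ha'⟩ := hdvd
  letI := (shiftPc_isInternal 𝒜 (-a)).chooseDecomposition
  haveI := gradedSMul_shiftPc 𝒜 (-a) 𝒜
  letI := (shiftPc_isInternal 𝒜' (-a')).chooseDecomposition
  haveI := gradedSMul_shiftPc 𝒜' (-a') 𝒜'
  have hC := isStarCanonical_shift hpos h0 hm hmsp hn ha he
  have hg : IsVero (shiftPc 𝒜 (-a)) (shiftPc 𝒜' (-a')) q ψ.toSemilinearMap := ⟨hV.inj, fun j => by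
    show (𝒜' (j - -a')).map (ψ : R' →+ R) = 𝒜 (j * q - -a)
    rw [hV.map_eq, ha']
    congr 1
    ring⟩
  have hD := isStarCanonical_vero hV hpos h0 (ne_top_of_isStarLocal 𝒜 hm) hmsp he hC
    (ne_top_of_isStarLocal 𝒜' hm') (irrIdeal_toIdeal 𝒜') (starRes 𝒜' 𝒜') he' hg
  exact (GrothGoren.isGorensteinRing_and_dim
    (canonical_cm_injdim 𝒜' hm' ((ringKrullDim_vero hV hpos).trans hn) he' hD).2).1

end Vero

end GrothGr
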