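import Groth.Agent.GrMod.Veronese.Gorenstein
import Groth.Agent.S18672
import Mathlib.LinearAlgebra.TensorProduct.Quotient

/-!
# The type of a Veronese subring of a Gorenstein ring

Helper library (no milestone statements here).
-/

universe u

open DirectSum GrLC

open scoped TensorProduct

namespace GrothGr

variable {R : Type u} [CommRing R] {𝒜 : ℤ → AddSubgroup R} [GradedRing 𝒜]

/-- A graded module generated by its lowest piece: the minimal number of generators. -/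
theorem finrank_quot_eq_finrank_piece (hpos : ∀ n : ℤ, n < 0 → 𝒜 n = ⊥) {m : HomogeneousIdeal 𝒜}
    [m.toIdeal.IsMaximal]
    (hmsp : m.toIdeal = Ideal.span (⋃ n ∈ Set.Ioi (0 : ℤ), (𝒜 n : Set R)))
    {D : Type u} [AddCommGroup D] [Module R D] (𝒟 : ℤ → AddSubgroup D) [Decomposition 𝒟]
    [SetLike.GradedSMul 𝒜 𝒟] {j₀ : ℤ} (hlow : ∀ k, k < j₀ → 𝒟 k = ⊥)
    (hgen : Submodule.span R ((𝒟 j₀ : AddSubgroup D) : Set D) = ⊤) :
    Module.finrank (R ⧸ m.toIdeal) ((R ⧸ m.toIdeal) ⊗[R] D) =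
      Module.finrank (GrLC.deg0 𝒜) (GrLC.comp 𝒜 𝒟 j₀) := by
  classical
  let W : Submodule R D := m.toIdeal • (⊤ : Submodule R D)
  have hW : ∀ w ∈ W, pr 𝒟 j₀ w = 0 := by
    intro w hw
    refine Submodule.smul_induction_on hw (fun r hr d _ => ?_) fun a b ha hb => by
      rw [map_add, ha, hb, add_zero]
    obtain ⟨s, -, hs⟩ := exists_sum_pr 𝒜 r
    rw [← hs, Finset.sum_smul, map_sum]
    refine Finset.sum_eq_zero fun l _ => ?_
    rcases lt_trichotomy l 0 with hl | rfl | hl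
    · have h := pr_mem 𝒜 l r
      rw [hpos l hl, AddSubgroup.mem_bot] at h
      rw [h, zero_smul, map_zero]
    · rw [pr_zero_of_mem_irrelevant 𝒜 hpos (hmsp ▸ hr), zero_smul, map_zero]
    · have h := pr_mem 𝒟 (j₀ - l) d
      rw [hlow _ (by omega), AddSubgroup.mem_bot] at h
      rw [pr_smul 𝒟 𝒜 (pr_mem 𝒜 l r), h, smul_zero]
  have hcong : ∀ r : R, r - pr 𝒜 0 r ∈ m.toIdeal := fun r => by
    rw [hmsp]
    refine mem_irrelevant_of_decompose_zero 𝒜 hpos ?_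
    show pr 𝒜 0 (r - pr 𝒜 0 r) = 0
    rw [map_sub, pr_of_mem 𝒜 (pr_mem 𝒜 0 r), sub_self]
  let π : GrLC.comp 𝒜 𝒟 j₀ →+ D ⧸ W := W.mkQ.toAddMonoidHom.comp (GrLC.comp 𝒜 𝒟 j₀).toAddSubgroup.subtype
  have hπ : Function.Bijective π := by
    constructor
    · rw [injective_iff_map_eq_zero]
      intro x hx
      refine Subtype.ext ?_
      have h := hW _ ((Submodule.Quotient.mk_eq_zero W).1 hx)
      exact (pr_of_mem 𝒟 (show (x : D) ∈ 𝒟 j₀ from x.2)).symm.trans h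
    · intro y
      obtain ⟨d, rfl⟩ := Submodule.mkQ_surjective W y
      suffices h : ∃ x : GrLC.comp 𝒜 𝒟 j₀, d - (x : D) ∈ W by
        obtain ⟨x, hx⟩ := h
        exact ⟨x, ((Submodule.Quotient.eq W).2 hx).symm⟩
      have hd : d ∈ Submodule.span R ((𝒟 j₀ : AddSubgroup D) : Set D) := hgen ▸ Submodule.mem_top
      induction hd using Submodule.span_induction with
      | mem z hz => exact ⟨⟨z, hz⟩, by rw [sub_self]; exact zero_mem _⟩
      | zero => exact ⟨0, by simp⟩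
      | add a b _ _ ha hb =>
        obtain ⟨x, hx⟩ := ha
        obtain ⟨y, hy⟩ := hb
        exact ⟨x + y, by rw [Submodule.coe_add, add_sub_add_comm]; exact add_mem hx hy⟩
      | smul r z _ hz =>
        obtain ⟨x, hx⟩ := hz
        refine ⟨(⟨pr 𝒜 0 r, pr_mem 𝒜 0 r⟩ : GrLC.deg0 𝒜) • x, ?_⟩
        show r • z - pr 𝒜 0 r • (x : D) ∈ W
        rw [show r • z - pr 𝒜 0 r • (x : D) = r • (z - (x : D)) + (r - pr 𝒜 0 r) • (x : D) by
          rw [smul_sub, sub_smul]; abel]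
        exact add_mem (W.smul_mem r hx) (Submodule.smul_mem_smul (hcong r) Submodule.mem_top)
  let i : GrLC.deg0 𝒜 →+* R ⧸ m.toIdeal := (Ideal.Quotient.mk m.toIdeal).comp (GrLC.deg0 𝒜).subtype
  have hi : Function.Bijective i := by
    constructor
    · rw [injective_iff_map_eq_zero]
      intro x hx
      have h := pr_zero_of_mem_irrelevant 𝒜 hpos (hmsp ▸ Ideal.Quotient.eq_zero_iff_mem.1 hx)
      exact Subtype.ext ((pr_of_mem 𝒜 (show (x : R) ∈ 𝒜 0 from x.2)).symm.trans h)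
    · intro y
      obtain ⟨r, rfl⟩ := Ideal.Quotient.mk_surjective y
      exact ⟨⟨pr 𝒜 0 r, pr_mem 𝒜 0 r⟩, (Ideal.Quotient.eq.2 (hcong r)).symm⟩
  let e := TensorProduct.quotTensorEquivQuotSMul D m.toIdeal
  refine (congrArg Cardinal.toNat (rank_eq_of_equiv_equiv i
    ((AddEquiv.ofBijective π hπ).trans e.symm.toAddEquiv) hi fun r x => ?_)).symm
  show e.symm (Submodule.Quotient.mk ((r : R) • (x : D))) =
    Ideal.Quotient.mk m.toIdeal (r : R) • e.symm (Submodule.Quotient.mk (x : D))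
  rw [Submodule.Quotient.mk_smul, map_smul, ← Ideal.Quotient.algebraMap_eq, algebraMap_smul]

namespace Vero

variable {R' : Type u} [CommRing R'] {𝒜' : ℤ → AddSubgroup R'} [GradedRing 𝒜'] {ψ : R' →+* R}
variable {q : ℕ}

/-- `r(R^(q)) = H(ρ, R)`. -/
theorem bassNum_vero [LocCoh.IsGorensteinRing R] (hV : IsVeroRing 𝒜 𝒜' ψ q)
    (hpos : ∀ n : ℤ, n < 0 → 𝒜 n = ⊥) (h0 : IsField (GrLC.deg0 𝒜))
    {m : HomogeneousIdeal 𝒜} (hm : IsStarLocal 𝒜 m)
    (hmsp : m.toIdeal = Ideal.span (⋃ n ∈ Set.Ioi (0 : ℤ), (𝒜 n : Set R)))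
    (hstd : Ideal.span (⋃ n ∈ Set.Ioi (0 : ℤ), (𝒜 n : Set R)) = Ideal.span ((𝒜 1 : AddSubgroup R) : Set R))
    {n : ℕ} (hn : ringKrullDim R = n) {I : StarInjRes 𝒜 𝒜} {a : ℤ}
    (ha : endDeg (I.Hgr m n) = ((a : WithTop ℤ) : WithBot (WithTop ℤ)))
    (m' : HomogeneousIdeal 𝒜') [m'.toIdeal.IsMaximal]
    (hm'sp : m'.toIdeal = Ideal.span (⋃ j ∈ Set.Ioi (0 : ℤ), (𝒜' j : Set R')))
    {ρ : ℤ} (hρ0 : 0 ≤ ρ) (hρq : ρ < q) (hρa : (q : ℤ) ∣ a - ρ) :
    GrLC.bassNum m'.toIdeal R' n = (Module.finrank (GrLC.deg0 𝒜) (GrLC.comp 𝒜 𝒜 ρ) : ℕ∞) := by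
  haveI := isCohenMacaulayRing_of_gorenstein R
  haveI := isCohenMacaulayRing_vero hV hpos h0 hm hmsp hn
  have hpos' : ∀ n : ℤ, n < 0 → 𝒜' n = ⊥ := fun _ hn => pos_of_vero hV hpos hn
  have h0' := isField_deg0_vero hV h0
  obtain rfl : m' = irrIdeal 𝒜' := HomogeneousIdeal.toIdeal_injective hm'sp
  have hm' := isStarLocal_irrIdeal 𝒜' hpos' h0'
  obtain ⟨E, e, he⟩ := exists_starInjHull 𝒜 (quotGr 𝒜 m)
  obtain ⟨E'', e', he'⟩ := exists_starInjHull 𝒜' (quotGr 𝒜' (irrIdeal 𝒜'))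
  letI := (shiftPc_isInternal 𝒜 (-a)).chooseDecomposition
  haveI := gradedSMul_shiftPc 𝒜 (-a) 𝒜
  have hC := isStarCanonical_shift hpos h0 hm hmsp hn ha he
  obtain ⟨V, G, hG⟩ := exists_vero hV (shiftPc 𝒜 (-a))
  have hD := isStarCanonical_vero hV hpos h0 (ne_top_of_isStarLocal 𝒜 hm) hmsp he hC
    (ne_top_of_isStarLocal 𝒜' hm') hm'sp (starRes 𝒜' 𝒜') he' hG
  rw [(canonical_type 𝒜' hm' ((ringKrullDim_vero hV hpos).trans hn) he' hD).2]
  obtain ⟨k, hk⟩ := hρa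
  have hdeg : ∀ j : ℤ, (V.gr j).map (G : V.carrier →+ R) = 𝒜 (a + j * q) := fun j => by
    rw [hG.map_eq]
    show 𝒜 (j * q - -a) = _
    congr 1
    ring
  have hlow : ∀ j, j < -k → V.gr j = ⊥ := fun j hj => by
    rw [eq_bot_iff]
    intro x hx
    have h1 : G x ∈ 𝒜 (a + j * q) := hdeg j ▸ ⟨x, hx, rfl⟩
    have h2 : j * (q : ℤ) ≤ (-k - 1) * q := mul_le_mul_of_nonneg_right (by omega) (by positivity)
    have h3 : a + j * q < 0 := by linarith
    rw [hpos _ h3, AddSubgroup.mem_bot] at h1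
    exact AddSubgroup.mem_bot.2 (hG.inj (h1.trans (map_zero G).symm))
  have hgen : Submodule.span R' ((V.gr (-k) : AddSubgroup V.carrier) : Set V.carrier) = ⊤ :=
    Groth.Agent.S18672.result R 𝒜 hpos h0 hstd q hV.pos R' 𝒜' ψ hV.inj hV.map_eq a V.carrier V.gr G
      hG.inj hdeg (-k) (by linarith) (by linarith)
  rw [finrank_quot_eq_finrank_piece hpos' hm'sp V.gr hlow hgen]
  refine congrArg Nat.cast (finrank_eq_of_map_eq hV G hG.inj _ _ ?_)
  show (V.gr (-k)).map (G : V.carrier →+ R) = 𝒜 ρ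
  rw [hdeg]
  congr 1
  linarith

end Vero

end GrothGr
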