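import Groth.Agent.GrMod.Hgr
import Groth.Agent.GrMod.Hilbert

/-!
# Veronese submodules

`IsVero φ q ℳ ℳ' g` says that `g : M' → M` identifies `(M', ℳ')` with the Veronese submodule
`⊕ j, M (j * q)`. Helper library (no milestone statements here).
-/

universe u

open DirectSum GrLC

namespace GrothGr.Vero

variable {R : Type u} [CommRing R] {𝒜 : ℤ → AddSubgroup R} [GradedRing 𝒜]
variable {R' : Type u} [CommRing R'] {𝒜' : ℤ → AddSubgroup R'} [GradedRing 𝒜'] {φ : R' →+* R}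
variable {M : Type u} [AddCommGroup M] [Module R M] (ℳ : ℤ → AddSubgroup M) [Decomposition ℳ]
  [SetLike.GradedSMul 𝒜 ℳ]
variable {M' : Type u} [AddCommGroup M'] [Module R' M'] (ℳ' : ℤ → AddSubgroup M') [Decomposition ℳ']
  [SetLike.GradedSMul 𝒜' ℳ']
variable {N : Type u} [AddCommGroup N] [Module R N] (𝒩 : ℤ → AddSubgroup N) [Decomposition 𝒩]
  [SetLike.GradedSMul 𝒜 𝒩]
variable {q : ℕ}

open Classical in
/-- Keep only the components of degree divisible by `q`. -/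
noncomputable def cut (q : ℕ) : M →+ M :=
  ((decomposeAddEquiv ℳ).symm.toAddMonoidHom.comp
    (DFinsupp.filterAddMonoidHom (fun d : ℤ => ℳ d) fun d => (q : ℤ) ∣ d)).comp
    (decomposeAddEquiv ℳ).toAddMonoidHom

open Classical in
omit [SetLike.GradedSMul 𝒜 ℳ] in
theorem pr_cut (q : ℕ) (d : ℤ) (m : M) :
    pr ℳ d (cut ℳ q m) = if (q : ℤ) ∣ d then pr ℳ d m else 0 := by
  show ((decompose ℳ ((decompose ℳ).symm (DFinsupp.filter (fun d => (q : ℤ) ∣ d) (decompose ℳ m)))) d : M) = _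
  rw [Equiv.apply_symm_apply, DFinsupp.filter_apply]
  split_ifs <;> rfl

omit [SetLike.GradedSMul 𝒜 ℳ] in
theorem cut_eq_self_of_forall {m : M} (h : ∀ d : ℤ, ¬(q : ℤ) ∣ d → pr ℳ d m = 0) :
    cut ℳ q m = m := pr_ext ℳ fun d => by
  rw [pr_cut]
  split_ifs with hd
  · rfl
  · exact (h d hd).symm

omit [SetLike.GradedSMul 𝒜 ℳ] in
theorem cut_of_mem {d : ℤ} (hd : (q : ℤ) ∣ d) {m : M} (hm : m ∈ ℳ d) : cut ℳ q m = m :=
  cut_eq_self_of_forall ℳ fun i hi => pr_of_mem_ne ℳ hm fun h => hi (h ▸ hd)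

omit [SetLike.GradedSMul 𝒜 ℳ] [SetLike.GradedSMul 𝒜 𝒩] in
theorem cut_map {f : M →ₗ[R] N} (hf : IsGrHom ℳ 𝒩 f) (m : M) :
    cut 𝒩 q (f m) = f (cut ℳ q m) := pr_ext 𝒩 fun d => by
  rw [pr_cut, ← GrothGr.map_pr ℳ 𝒩 hf, ← GrothGr.map_pr ℳ 𝒩 hf, pr_cut]
  split_ifs <;> simp

theorem cut_smul_of_mem {j : ℤ} {r : R} (hr : r ∈ 𝒜 (j * q)) (m : M) :
    cut ℳ q (r • m) = r • cut ℳ q m := pr_ext ℳ fun d => by
  rw [pr_cut]
  have hd : (q : ℤ) ∣ d - j * q ↔ (q : ℤ) ∣ d := dvd_sub_left (dvd_mul_left _ _)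
  obtain ⟨e, rfl⟩ : ∃ e, d = j * q + e := ⟨d - j * q, by ring⟩
  rw [pr_smul_add ℳ 𝒜 hr, pr_smul_add ℳ 𝒜 hr, pr_cut]
  rw [add_sub_cancel_left] at hd
  by_cases h : (q : ℤ) ∣ e
  · rw [if_pos h, if_pos (hd.1 h)]
  · rw [if_neg h, if_neg (mt hd.2 h), smul_zero]

section Ring

variable (𝒜 𝒜' φ q) in
/-- `φ : R' → R` presents `R'` as the `q`-th Veronese subring. -/
structure IsVeroRing : Prop where
  inj : Function.Injective φ
  pos : 0 < q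
  map_eq : ∀ j : ℤ, (𝒜' j).map (φ : R' →+ R) = 𝒜 (j * q)

theorem IsVeroRing.map_mem (hV : IsVeroRing 𝒜 𝒜' φ q) {j : ℤ} {r : R'} (hr : r ∈ 𝒜' j) :
    φ r ∈ 𝒜 (j * q) :=
  hV.map_eq j ▸ ⟨r, hr, rfl⟩

theorem IsVeroRing.exists_eq (hV : IsVeroRing 𝒜 𝒜' φ q) {j : ℤ} {x : R} (hx : x ∈ 𝒜 (j * q)) :
    ∃ r ∈ 𝒜' j, φ r = x := (hV.map_eq j).ge hx

theorem IsVeroRing.cut_smul (hV : IsVeroRing 𝒜 𝒜' φ q) (r : R') (m : M) :
    cut ℳ q (φ r • m) = φ r • cut ℳ q m := by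
  obtain ⟨s, -, hs⟩ := exists_sum_pr 𝒜' r
  rw [← hs, map_sum, Finset.sum_smul, Finset.sum_smul, map_sum]
  exact Finset.sum_congr rfl fun j _ => cut_smul_of_mem ℳ (hV.map_mem (pr_mem 𝒜' j r)) m

end Ring

variable (q) in
/-- `g` presents `M'` as the `q`-th Veronese submodule of `M`. -/
structure IsVero (g : M' →ₛₗ[φ] M) : Prop where
  inj : Function.Injective g
  map_eq : ∀ j : ℤ, (ℳ' j).map (g : M' →+ M) = ℳ (j * q)

variable {ℳ ℳ'} {g : M' →ₛₗ[φ] M}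

omit [SetLike.GradedSMul 𝒜 ℳ] [SetLike.GradedSMul 𝒜' ℳ'] [Decomposition ℳ] [Decomposition ℳ'] in
theorem IsVero.map_mem (h : IsVero ℳ ℳ' q g) {j : ℤ} {x : M'} (hx : x ∈ ℳ' j) : g x ∈ ℳ (j * q) :=
  h.map_eq j ▸ ⟨x, hx, rfl⟩

omit [SetLike.GradedSMul 𝒜 ℳ] [SetLike.GradedSMul 𝒜' ℳ'] [Decomposition ℳ] [Decomposition ℳ'] in
theorem IsVero.exists_eq (h : IsVero ℳ ℳ' q g) {j : ℤ} {m : M} (hm : m ∈ ℳ (j * q)) :
    ∃ x ∈ ℳ' j, g x = m := (h.map_eq j).ge hm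

omit [SetLike.GradedSMul 𝒜 ℳ] [SetLike.GradedSMul 𝒜' ℳ'] in
theorem IsVero.cut_apply (h : IsVero ℳ ℳ' q g) (x : M') : cut ℳ q (g x) = g x := by
  obtain ⟨s, -, hs⟩ := exists_sum_pr ℳ' x
  rw [← hs, map_sum, map_sum]
  exact Finset.sum_congr rfl fun j _ => cut_of_mem ℳ (dvd_mul_left _ _) (h.map_mem (pr_mem ℳ' j x))

omit [SetLike.GradedSMul 𝒜 ℳ] [SetLike.GradedSMul 𝒜' ℳ'] in
theorem IsVero.exists_cut (h : IsVero ℳ ℳ' q g) (m : M) : ∃ x : M', g x = cut ℳ q m := by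
  obtain ⟨s, -, hs⟩ := exists_sum_pr ℳ (cut ℳ q m)
  rw [← hs]
  have : ∀ d ∈ s, ∃ x : M', g x = pr ℳ d (cut ℳ q m) := by
    intro d _
    by_cases hd : (q : ℤ) ∣ d
    · obtain ⟨j, rfl⟩ := dvd_iff_exists_eq_mul_left.1 hd
      obtain ⟨x, -, hx⟩ := h.exists_eq (pr_mem ℳ (j * q) (cut ℳ q m))
      exact ⟨x, hx⟩
    · exact ⟨0, by rw [map_zero, pr_cut, if_neg hd]⟩
  choose! x hx using this
  exact ⟨∑ d ∈ s, x d, by rw [map_sum]; exact Finset.sum_congr rfl hx⟩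

/-- The retraction `M → M'`. -/
noncomputable def IsVero.retr (h : IsVero ℳ ℳ' q g) : M →+ M' :=
  AddMonoidHom.mk' (fun m => (h.exists_cut m).choose) fun a b => h.inj
    ((h.exists_cut (a + b)).choose_spec.trans ((map_add (cut ℳ q) a b).trans
      ((congrArg₂ (· + ·) (h.exists_cut a).choose_spec.symm (h.exists_cut b).choose_spec.symm).trans
        (map_add g _ _).symm)))

omit [SetLike.GradedSMul 𝒜 ℳ] [SetLike.GradedSMul 𝒜' ℳ'] in
theorem IsVero.apply_retr (h : IsVero ℳ ℳ' q g) (m : M) : g (h.retr m) = cut ℳ q m :=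
  (h.exists_cut m).choose_spec

omit [SetLike.GradedSMul 𝒜 ℳ] [SetLike.GradedSMul 𝒜' ℳ'] in
theorem IsVero.retr_apply (h : IsVero ℳ ℳ' q g) (x : M') : h.retr (g x) = x :=
  h.inj (by rw [h.apply_retr, h.cut_apply])

omit [SetLike.GradedSMul 𝒜' ℳ'] in
theorem IsVero.retr_smul (hV : IsVeroRing 𝒜 𝒜' φ q) (h : IsVero ℳ ℳ' q g) (r : R') (m : M) :
    h.retr (φ r • m) = r • h.retr m :=
  h.inj (by rw [h.apply_retr, hV.cut_smul ℳ, map_smulₛₗ, h.apply_retr])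

omit [SetLike.GradedSMul 𝒜 ℳ] [SetLike.GradedSMul 𝒜' ℳ'] in
theorem IsVero.retr_mem (h : IsVero ℳ ℳ' q g) {j : ℤ} {m : M} (hm : m ∈ ℳ (j * q)) :
    h.retr m ∈ ℳ' j := by
  obtain ⟨x, hx, rfl⟩ := h.exists_eq hm
  rwa [h.retr_apply]

omit [SetLike.GradedSMul 𝒜 ℳ] [SetLike.GradedSMul 𝒜' ℳ'] in
theorem IsVero.retr_of_not_dvd (h : IsVero ℳ ℳ' q g) {d : ℤ} (hd : ¬(q : ℤ) ∣ d) {m : M}
    (hm : m ∈ ℳ d) : h.retr m = 0 :=
  h.inj (by
    rw [h.apply_retr, map_zero]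
    refine pr_ext ℳ fun i => ?_
    rw [pr_cut, map_zero]
    split_ifs with hi
    · exact pr_of_mem_ne ℳ hm fun e => hd (e ▸ hi)
    · rfl)

omit [SetLike.GradedSMul 𝒜 ℳ] [SetLike.GradedSMul 𝒜' ℳ'] in
theorem IsVero.map_pr (hq : 0 < q) (h : IsVero ℳ ℳ' q g) (j : ℤ) (x : M') :
    g (pr ℳ' j x) = pr ℳ (j * q) (g x) := by
  obtain ⟨s, -, hs⟩ := exists_sum_pr ℳ' x
  conv_rhs => rw [← hs, map_sum, map_sum]
  conv_lhs => rw [← hs, map_sum, map_sum]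
  refine Finset.sum_congr rfl fun i _ => ?_
  by_cases hij : i = j
  · subst hij
    rw [pr_of_mem ℳ' (pr_mem ℳ' i x), pr_of_mem ℳ (h.map_mem (pr_mem ℳ' i x))]
  · rw [pr_of_mem_ne ℳ' (pr_mem ℳ' i x) hij, map_zero, pr_of_mem_ne ℳ (h.map_mem (pr_mem ℳ' i x))
      fun e => hij (mul_right_cancel₀ (by exact_mod_cast hq.ne') e)]

section Ring

variable (hV : IsVeroRing 𝒜 𝒜' φ q)

include hV in
theorem isVero_ring : IsVero 𝒜 𝒜' q (φ.toSemilinearMap) := ⟨hV.inj, hV.map_eq⟩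

include hV in
/-- A Veronese subring of a Noetherian ring is Noetherian. -/
theorem IsVeroRing.isNoetherianRing [IsNoetherianRing R] : IsNoetherianRing R' := by
  have hW := isVero_ring hV
  have key : ∀ (I : Ideal R') (x : R'), φ x ∈ I.map φ → x ∈ I := by
    intro I x hx
    suffices h : ∀ z ∈ I.map φ, hW.retr z ∈ I by
      have := h _ hx
      rwa [show φ x = φ.toSemilinearMap x from rfl, hW.retr_apply] at this
    intro z hz
    suffices h : ∀ c : R, hW.retr (c * z) ∈ I by simpa using h 1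
    induction hz using Submodule.span_induction with
    | mem y hy =>
      obtain ⟨i, hi, rfl⟩ := hy
      intro c
      rw [mul_comm, ← smul_eq_mul, hW.retr_smul hV, smul_eq_mul]
      exact I.mul_mem_right _ hi
    | zero => intro c; rw [mul_zero, map_zero]; exact zero_mem _
    | add a b _ _ ha hb => intro c; rw [mul_add, map_add]; exact add_mem (ha c) (hb c)
    | smul s a _ ha => intro c; rw [smul_eq_mul, ← mul_assoc]; exact ha _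
  have hmono : StrictMono (fun I : Ideal R' => I.map φ) := fun I J hIJ =>
    lt_of_le_of_ne (Ideal.map_mono hIJ.le) fun e => hIJ.not_ge fun x hx =>
      key I x (e.ge (Ideal.mem_map_of_mem _ hx))
  exact isNoetherianRing_iff.2 (isNoetherian_iff'.2 hmono.wellFoundedGT)

end Ring

end GrothGr.Vero
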