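import Groth.Agent.GrMod.Veronese.Finrank
import Groth.Agent.GrMod.HullDual

/-!
# The canonical module of a Veronese subring

Helper library (no milestone statements here).
-/

universe u

open DirectSum GrLC

namespace GrothGr

/-- The isomorphism of a canonical module carries the maps of degree `d` onto `H^n_d`. -/
theorem map_homDeg_eq {R : Type u} [CommRing R] {𝒜 : ℤ → AddSubgroup R} [GradedRing 𝒜]
    {m : HomogeneousIdeal 𝒜} {n : ℕ} {I : StarInjRes 𝒜 𝒜} {E' : Type u} [AddCommGroup E']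
    [Module R E'] {𝓔 : ℤ → AddSubgroup E'} [Decomposition 𝓔] [SetLike.GradedSMul 𝒜 𝓔]
    {C : Type u} [AddCommGroup C] [Module R C] {𝒞 : ℤ → AddSubgroup C} [Decomposition 𝒞]
    [SetLike.GradedSMul 𝒜 𝒞] [Module.Finite R C] {φ : (C →ₗ[R] E') ≃ₗ[R] I.H m n}
    (hφ : IsGrHom (fun d => (homDeg 𝒜 𝒞 𝓔 d).toAddSubgroup) (I.Hgr m n) φ.toLinearMap) (d : ℤ) :
    (homDeg 𝒜 𝒞 𝓔 d).toAddSubgroup.map (φ.toLinearMap : (C →ₗ[R] E') →+ I.H m n) = I.Hgr m n d := by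
  refine le_antisymm ?_ fun z hz => ?_
  · rintro _ ⟨f, hf, rfl⟩
    exact hφ d f hf
  · letI := (Hgr_isInternal 𝒜 𝒜 I m n).chooseDecomposition
    obtain ⟨D, hD⟩ := exists_sum_degPart 𝒜 𝒞 𝓔 (φ.symm z)
    have hdeg : ∀ d, IsGrHomDeg 𝒞 𝓔 (degPart 𝒜 𝒞 𝓔 (φ.symm z) d) d := fun d i c hc' =>
      degPart_isGrHom 𝒜 𝒞 𝓔 (φ.symm z) d (i + d) c (by
        show c ∈ 𝒞 (i + d - d)
        rwa [add_sub_cancel_right])
    have h1 : z = ∑ d ∈ D, φ (degPart 𝒜 𝒞 𝓔 (φ.symm z) d) := by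
      rw [← map_sum, hD, φ.apply_symm_apply]
    have hφ' : ∀ i, φ (degPart 𝒜 𝒞 𝓔 (φ.symm z) i) ∈ I.Hgr m n i := fun i => hφ i _ (hdeg i)
    by_cases hd : d ∈ D
    · refine ⟨degPart 𝒜 𝒞 𝓔 (φ.symm z) d, hdeg d, ?_⟩
      show φ (degPart 𝒜 𝒞 𝓔 (φ.symm z) d) = z
      have h2 := congrArg (pr (I.Hgr m n) d) h1
      rw [map_sum, Finset.sum_eq_single d (fun i _ hid => pr_of_mem_ne (I.Hgr m n) (hφ' i) hid)
        (fun h => absurd hd h)] at h2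
      exact (pr_of_mem (I.Hgr m n) (hφ' d)).symm.trans
        (h2.symm.trans (pr_of_mem (I.Hgr m n) hz))
    · refine ⟨0, zero_mem _, ?_⟩
      rw [map_zero, ← pr_of_mem (I.Hgr m n) hz, h1, map_sum]
      exact (Finset.sum_eq_zero fun i hi => pr_of_mem_ne (I.Hgr m n) (hφ' i)
        fun h : i = d => hd (h ▸ hi)).symm

namespace Vero

variable {R : Type u} [CommRing R] [IsNoetherianRing R] {𝒜 : ℤ → AddSubgroup R} [GradedRing 𝒜]
variable {R' : Type u} [CommRing R'] {𝒜' : ℤ → AddSubgroup R'} [GradedRing 𝒜'] {ψ : R' →+* R}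
variable {q : ℕ}

/-- `K_{R^(q)} = (K_R)^(q)`. -/
theorem exists_vero_canonical (hV : IsVeroRing 𝒜 𝒜' ψ q)
    (hpos : ∀ n : ℤ, n < 0 → 𝒜 n = ⊥) (h0 : IsField (GrLC.deg0 𝒜))
    {m : HomogeneousIdeal 𝒜} (hne : m.toIdeal ≠ ⊤)
    (hmsp : m.toIdeal = Ideal.span (⋃ n ∈ Set.Ioi (0 : ℤ), (𝒜 n : Set R)))
    {n : ℕ} {I : StarInjRes 𝒜 𝒜} {E' : Type u} [AddCommGroup E'] [Module R E']
    {𝓔 : ℤ → AddSubgroup E'} [Decomposition 𝓔] [SetLike.GradedSMul 𝒜 𝓔]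
    {e : (R ⧸ m.toIdeal) →ₗ[R] E'} (he : IsStarInjHull 𝒜 (quotGr 𝒜 m) 𝓔 e)
    {C : Type u} [AddCommGroup C] [Module R C] {𝒞 : ℤ → AddSubgroup C} [Decomposition 𝒞]
    [SetLike.GradedSMul 𝒜 𝒞] (hC : IsStarCanonical 𝒜 𝒞 𝓔 m n I)
    {m' : HomogeneousIdeal 𝒜'} (hne' : m'.toIdeal ≠ ⊤)
    (hm'sp : m'.toIdeal = Ideal.span (⋃ j ∈ Set.Ioi (0 : ℤ), (𝒜' j : Set R')))
    (I' : StarInjRes 𝒜' 𝒜') {E'' : Type u} [AddCommGroup E''] [Module R' E'']
    {𝓔'' : ℤ → AddSubgroup E''} [Decomposition 𝓔''] [SetLike.GradedSMul 𝒜' 𝓔'']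
    {e' : (R' ⧸ m'.toIdeal) →ₗ[R'] E''} (he' : IsStarInjHull 𝒜' (quotGr 𝒜' m') 𝓔'' e')
    {C' : Type u} [AddCommGroup C'] [Module R' C'] {𝒞' : ℤ → AddSubgroup C'} [Decomposition 𝒞']
    [SetLike.GradedSMul 𝒜' 𝒞'] (hC' : IsStarCanonical 𝒜' 𝒞' 𝓔'' m' n I') :
    ∃ g : C' →ₛₗ[ψ] C, IsVero 𝒞 𝒞' q g := by
  classical
  haveI := hV.isNoetherianRing
  have hpos' : ∀ n : ℤ, n < 0 → 𝒜' n = ⊥ := fun _ hn => pos_of_vero hV hpos hn
  have h0' := isField_deg0_vero hV h0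
  obtain ⟨hfin, φC, hφC⟩ := hC
  obtain ⟨hfin', φC', hφC'⟩ := hC'
  haveI := hfin
  haveI := hfin'
  obtain ⟨γ, hγ⟩ := exists_vero_H hV hmsp hm'sp I (isVero_ring hV) I' n
  let T : (C' →ₗ[R'] E'') →ₛₗ[ψ] (C →ₗ[R] E') :=
    (φC.symm.toLinearMap).comp (γ.comp φC'.toLinearMap)
  have hTi : Function.Injective T := fun a b h =>
    φC'.injective (hγ.inj (φC.symm.injective h))
  have hTmem : ∀ {j : ℤ} {f : C' →ₗ[R'] E''}, f ∈ homDeg 𝒜' 𝒞' 𝓔'' j →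
      T f ∈ homDeg 𝒜 𝒞 𝓔 (j * q) := by
    intro j f hf
    obtain ⟨u, hu, hue⟩ := (map_homDeg_eq hφC (j * q)).ge (hγ.map_mem (hφC' j f hf))
    show φC.symm (γ (φC' f)) ∈ homDeg 𝒜 𝒞 𝓔 (j * q)
    rw [show φC.symm (γ (φC' f)) = u from φC.symm_apply_eq.2 hue.symm]
    exact hu
  have hTsurj : ∀ {j : ℤ} {f : C →ₗ[R] E'}, f ∈ homDeg 𝒜 𝒞 𝓔 (j * q) →
      ∃ f' ∈ homDeg 𝒜' 𝒞' 𝓔'' j, T f' = f := by
    intro j f hf
    obtain ⟨w, hw, hwe⟩ := hγ.exists_eq (hφC (j * q) f hf)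
    obtain ⟨f', hf', hfe⟩ := (map_homDeg_eq hφC' j).ge hw
    refine ⟨f', hf', ?_⟩
    show φC.symm (γ (φC' f')) = f
    rw [show φC' f' = w from hfe, hwe]
    exact φC.symm_apply_apply f
  choose! S hS hTS using fun (j : ℤ) (f : C →ₗ[R] E') (hf : f ∈ homDeg 𝒜 𝒞 𝓔 (j * q)) =>
    hTsurj hf
  let coef' : ∀ {i : ℤ} (_ : GrLC.comp 𝒜' 𝒞' i) (_ : homDeg 𝒜' 𝒞' 𝓔'' (-i)), GrLC.deg0 𝒜' :=
    fun {i} c f => homDualEquiv hpos' hm'sp hne' h0' he' 𝒞' (-i) i (add_neg_cancel i) f c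
  have hcoef' : ∀ {i : ℤ} (c : GrLC.comp 𝒜' 𝒞' i) (f : homDeg 𝒜' 𝒞' 𝓔'' (-i)),
      (coef' c f : R') • e' 1 = (f : C' →ₗ[R'] E'') c := fun {i} c f =>
    homDualEquiv_spec hpos' hm'sp hne' h0' he' (-i) i (add_neg_cancel i) f c
  -- the element of `C` attached to a homogeneous element of `C'`
  have key : ∀ (i : ℤ) (c : GrLC.comp 𝒜' 𝒞' i), ∃! x : GrLC.comp 𝒜 𝒞 (i * q),
      ∀ f : homDeg 𝒜' 𝒞' 𝓔'' (-i), T f (x : C) = ψ (coef' c f) • e 1 := by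
    intro i c
    have hneg : -(i * (q : ℤ)) = -i * q := by ring
    let Sd : homDeg 𝒜 𝒞 𝓔 (-(i * q)) → homDeg 𝒜' 𝒞' 𝓔'' (-i) := fun f =>
      ⟨S (-i) (f : C →ₗ[R] E'), hS (-i) _ (by rw [← hneg]; exact f.2)⟩
    have hSd : ∀ f, T (Sd f : C' →ₗ[R'] E'') = (f : C →ₗ[R] E') := fun f =>
      hTS (-i) _ (by rw [← hneg]; exact f.2)
    let L : homDeg 𝒜 𝒞 𝓔 (-(i * q)) →ₗ[GrLC.deg0 𝒜] GrLC.deg0 𝒜 :=
      { toFun := fun f => deg0Equiv hV (coef' c (Sd f))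
        map_add' := fun a b => by
          rw [← map_add]
          refine congrArg _ ?_
          have hab : Sd (a + b) = Sd a + Sd b := Subtype.ext (hTi ((hSd (a + b)).trans
            (((congrArg₂ (· + ·) (hSd a) (hSd b)).symm.trans (map_add T _ _).symm))))
          exact (congrArg (coef' c) hab).trans (LinearMap.congr_fun
            (map_add (homDualEquiv hpos' hm'sp hne' h0' he' 𝒞' (-i) i (add_neg_cancel i)) _ _) c)
        map_smul' := fun r a => by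
          obtain ⟨r', rfl⟩ := (deg0Equiv hV).surjective r
          rw [RingHom.id_apply, smul_eq_mul, ← map_mul]
          refine congrArg _ ?_
          have hab : Sd (deg0Equiv hV r' • a) = r' • Sd a := Subtype.ext (hTi
            ((hSd (deg0Equiv hV r' • a)).trans (Eq.symm
              ((T.map_smulₛₗ (r' : R') (Sd a : C' →ₗ[R'] E'')).trans
                (congrArg (fun z => ψ (r' : R') • z) (hSd a))))))
          exact (congrArg (coef' c) hab).trans (LinearMap.congr_fun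
            (map_smul (homDualEquiv hpos' hm'sp hne' h0' he' 𝒞' (-i) i (add_neg_cancel i)) r' _) c) }
    obtain ⟨x, hx, huniq⟩ := existsUnique_eval hpos hmsp hne h0 he (-(i * q)) (i * q)
      (add_neg_cancel _) L
    refine ⟨x, fun f => ?_, fun y hy => huniq y fun f => ?_⟩
    · have hfT : T (f : C' →ₗ[R'] E'') ∈ homDeg 𝒜 𝒞 𝓔 (-(i * q)) := by
        rw [hneg]; exact hTmem f.2
      have hf : Sd ⟨_, hfT⟩ = f := Subtype.ext (hTi (hSd ⟨_, hfT⟩))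
      refine (hx ⟨_, hfT⟩).trans ?_
      show (deg0Equiv hV (coef' c (Sd ⟨_, hfT⟩)) : R) • e 1 = _
      rw [hf, deg0Equiv_apply]
    · refine Eq.trans ?_ ((hy (Sd f)).trans ?_)
      · rw [hSd]
      · show ψ (coef' c (Sd f)) • e 1 = (deg0Equiv hV (coef' c (Sd f)) : R) • e 1
        rw [deg0Equiv_apply]
  choose x hx hxu using key
  let gp : ∀ i : ℤ, GrLC.comp 𝒜' 𝒞' i →+ C := fun i =>
    AddMonoidHom.mk' (fun c => (x i c : C)) fun a b => by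
      rw [← Submodule.coe_add]
      refine congrArg Subtype.val (hxu i (a + b) (x i a + x i b) fun f => ?_).symm
      rw [Submodule.coe_add, map_add, hx i a f, hx i b f, ← add_smul, ← map_add ψ]
      exact congrArg (fun t : GrLC.deg0 𝒜' => ψ t • e 1)
        (map_add (homDualEquiv hpos' hm'sp hne' h0' he' 𝒞' (-i) i (add_neg_cancel i) f) a b).symm
  let gA : C' →+ C := (DirectSum.toAddMonoid (β := fun i => 𝒞' i) fun i =>
    (gp i).comp (AddMonoidHom.mk' (fun c : 𝒞' i => (⟨c, c.2⟩ : GrLC.comp 𝒜' 𝒞' i)) fun _ _ => rfl)).comp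
    (decomposeAddEquiv 𝒞').toAddMonoidHom
  have hgA : ∀ (i : ℤ) (c : GrLC.comp 𝒜' 𝒞' i), gA c = (x i c : C) := fun i c => by
    show DirectSum.toAddMonoid _ (decompose 𝒞' (c : C')) = _
    rw [decompose_of_mem 𝒞' (show (c : C') ∈ 𝒞' i from c.2), DirectSum.toAddMonoid_of]
    rfl
  have hsmul : ∀ (r : R') (c : C'), gA (r • c) = ψ r • gA c := by
    intro r c
    obtain ⟨s, -, hs⟩ := exists_sum_pr 𝒜' r
    obtain ⟨t, -, ht⟩ := exists_sum_pr 𝒞' c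
    rw [← hs, map_sum, Finset.sum_smul, map_sum, Finset.sum_smul]
    refine Finset.sum_congr rfl fun l _ => ?_
    rw [← ht, Finset.smul_sum, map_sum, map_sum, Finset.smul_sum]
    refine Finset.sum_congr rfl fun i _ => ?_
    set cc : GrLC.comp 𝒜' 𝒞' i := ⟨pr 𝒞' i c, pr_mem 𝒞' i c⟩
    set rr : GrLC.comp 𝒜' 𝒞' (l + i) :=
      ⟨pr 𝒜' l r • pr 𝒞' i c, smul_mem 𝒞' 𝒜' (pr_mem 𝒜' l r) (pr_mem 𝒞' i c)⟩
    show gA (rr : C') = ψ (pr 𝒜' l r) • gA (cc : C')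
    rw [hgA, hgA]
    have hmem : ψ (pr 𝒜' l r) • (x i cc : C) ∈ 𝒞 ((l + i) * q) := by
      rw [add_mul]
      exact smul_mem 𝒞 𝒜 (hV.map_mem (pr_mem 𝒜' l r)) (x i cc).2
    refine (congrArg Subtype.val (hxu (l + i) rr ⟨_, hmem⟩ fun f => ?_)).symm
    have hf' : pr 𝒜' l r • (f : C' →ₗ[R'] E'') ∈ homDeg 𝒜' 𝒞' 𝓔'' (-i) := fun k z hz => by
      rw [LinearMap.smul_apply]
      have h := smul_mem 𝓔'' 𝒜' (pr_mem 𝒜' l r) (f.2 k z hz)
      rwa [show l + (k + -(l + i)) = k + -i by omega] at h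
    show T (f : C' →ₗ[R'] E'') (ψ (pr 𝒜' l r) • (x i cc : C)) = _
    rw [map_smul, ← LinearMap.smul_apply, ← T.map_smulₛₗ]
    refine (hx i cc ⟨_, hf'⟩).trans ?_
    refine congrArg (fun t : GrLC.deg0 𝒜' => ψ t • e 1) ?_
    refine (socleMap_bijective hpos' hm'sp hne' h0' he').1 (Subtype.ext ?_)
    show (coef' cc ⟨_, hf'⟩ : R') • e' 1 = (coef' rr f : R') • e' 1
    rw [hcoef', hcoef']
    exact (map_smul (f : C' →ₗ[R'] E'') (pr 𝒜' l r) (pr 𝒞' i c)).symm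
  refine ⟨{ toFun := gA, map_add' := map_add gA, map_smul' := hsmul }, ?_, fun j => ?_⟩
  · refine (injective_iff_map_eq_zero gA).2 fun c hc => eq_zero_of_pr 𝒞' fun i => ?_
    set cc : GrLC.comp 𝒜' 𝒞' i := ⟨pr 𝒞' i c, pr_mem 𝒞' i c⟩
    have hxi : (x i cc : C) = 0 := by
      obtain ⟨t, ht', ht⟩ := exists_sum_pr 𝒞' c
      have h : pr 𝒞 (i * q) (gA c) = (x i cc : C) := by
        rw [← ht, map_sum, map_sum, Finset.sum_eq_single i (fun k _ hk => ?_) (fun hi => ?_)]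
        · rw [hgA i cc]
          exact pr_of_mem 𝒞 (x i cc).2
        · rw [hgA k ⟨pr 𝒞' k c, pr_mem 𝒞' k c⟩]
          exact pr_of_mem_ne 𝒞 (x k _).2 fun e =>
            hk (mul_right_cancel₀ (by exact_mod_cast hV.pos.ne') e)
        · rw [ht' i hi, map_zero, map_zero]
      rw [← h, hc, map_zero]
    by_contra hne0
    obtain ⟨y, -, hyu⟩ := existsUnique_eval hpos' hm'sp hne' h0' he' (-i) i (add_neg_cancel i)
      (0 : homDeg 𝒜' 𝒞' 𝓔'' (-i) →ₗ[GrLC.deg0 𝒜'] GrLC.deg0 𝒜')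
    refine hne0 (congrArg Subtype.val (show cc = 0 from (hyu cc fun f => ?_).trans
      (hyu 0 fun f => by simp).symm))
    have h := hx i cc f
    rw [hxi, map_zero] at h
    have h2 : coef' cc f = 0 := (deg0Equiv hV).injective ((socleMap_bijective hpos hmsp hne h0 he).1
      (Subtype.ext (by
        show (deg0Equiv hV (coef' cc f) : R) • e 1 = (deg0Equiv hV 0 : R) • e 1
        rw [deg0Equiv_apply, deg0Equiv_apply, ← h]
        simp)))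
    rw [← hcoef' cc f, h2]
    simp
  · apply le_antisymm
    · rintro _ ⟨c, hc, rfl⟩
      show gA c ∈ 𝒞 (j * q)
      rw [hgA j ⟨c, hc⟩]
      exact (x j _).2
    · intro z hz
      let L' : homDeg 𝒜' 𝒞' 𝓔'' (-j) →ₗ[GrLC.deg0 𝒜'] GrLC.deg0 𝒜' :=
        { toFun := fun f => (deg0Equiv hV).symm (homDualEquiv hpos hmsp hne h0 he 𝒞 (-j * q) (j * q)
            (by ring) ⟨T (f : C' →ₗ[R'] E''), hTmem f.2⟩ ⟨z, hz⟩)
          map_add' := fun a b => by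
            rw [← map_add, show (⟨T ((a + b : homDeg 𝒜' 𝒞' 𝓔'' (-j)) : C' →ₗ[R'] E''), hTmem (a + b).2⟩ :
              homDeg 𝒜 𝒞 𝓔 (-j * q)) = ⟨T a, hTmem a.2⟩ + ⟨T b, hTmem b.2⟩ from
                Subtype.ext (map_add T _ _), map_add]
            rfl
          map_smul' := fun r a => by
            rw [RingHom.id_apply, show (⟨T ((r • a : homDeg 𝒜' 𝒞' 𝓔'' (-j)) : C' →ₗ[R'] E''), hTmem (r • a).2⟩ :
              homDeg 𝒜 𝒞 𝓔 (-j * q)) = deg0Equiv hV r • ⟨T a, hTmem a.2⟩ from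
                Subtype.ext (T.map_smulₛₗ (r : R') (a : C' →ₗ[R'] E'')), map_smul,
              LinearMap.smul_apply, smul_eq_mul, map_mul, RingEquiv.symm_apply_apply]
            rfl }
      obtain ⟨c, hc, -⟩ := existsUnique_eval hpos' hm'sp hne' h0' he' (-j) j (add_neg_cancel j) L'
      refine ⟨(c : C'), c.2, ?_⟩
      show gA (c : C') = z
      rw [hgA]
      refine congrArg Subtype.val (hxu j c ⟨z, hz⟩ fun f => ?_).symm
      have h1 : coef' c f = L' f := (socleMap_bijective hpos' hm'sp hne' h0' he').1 (Subtype.ext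
        ((hcoef' c f).trans (hc f)))
      rw [h1]
      show T (f : C' →ₗ[R'] E'') z = ψ ((deg0Equiv hV).symm _ : R') • e 1
      rw [← deg0Equiv_apply hV, RingEquiv.apply_symm_apply]
      exact (homDualEquiv_spec hpos hmsp hne h0 he (-j * q) (j * q) (by ring)
        ⟨T (f : C' →ₗ[R'] E''), hTmem f.2⟩ ⟨z, hz⟩).symm

end Vero

end GrothGr
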