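import Groth.Agent.GrMod.Veronese.Canonical
import Mathlib.LinearAlgebra.Span.Basic

/-!
# Veronese submodules of canonical modules are canonical

Helper library (no milestone statements here).
-/

universe u

open DirectSum GrLC

namespace GrothGr.Vero

variable {R : Type u} [CommRing R] [IsNoetherianRing R] {𝒜 : ℤ → AddSubgroup R} [GradedRing 𝒜]
variable {R' : Type u} [CommRing R'] {𝒜' : ℤ → AddSubgroup R'} [GradedRing 𝒜'] {ψ : R' →+* R}
variable {q : ℕ}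

/-- A Veronese submodule of a canonical module is a canonical module of the Veronese subring. -/
theorem isStarCanonical_vero (hV : IsVeroRing 𝒜 𝒜' ψ q)
    (hpos : ∀ n : ℤ, n < 0 → 𝒜 n = ⊥) (h0 : IsField (GrLC.deg0 𝒜))
    {m : HomogeneousIdeal 𝒜} (hne : m.toIdeal ≠ ⊤)
    (hmsp : m.toIdeal = Ideal.span (⋃ n ∈ Set.Ioi (0 : ℤ), (𝒜 n : Set R)))
    {n : ℕ} {I : StarInjRes 𝒜 𝒜} {E' : Type u} [AddCommGroup E'] [Module R E']
    {𝓔 : ℤ → AddSubgroup E'} [Decomposition 𝓔] [SetLike.GradedSMul 𝒜 𝓔]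
    {e : (R ⧸ m.toIdeal) →ₗ[R] E'} (he : IsStarInjHull 𝒜 (quotGr 𝒜 m) 𝓔 e)
    {C : Type u} [AddCommGroup C] [Module R C] {𝒞 : ℤ → AddSubgroup C} [Decomposition 𝒞]
    [SetLike.GradedSMul 𝒜 𝒞] (hC : IsStarCanonical 𝒜 𝒞 𝓔 m n I)
    {m' : HomogeneousIdeal 𝒜'} (hne' : m'.toIdeal ≠ ⊤)
    (hm'sp : m'.toIdeal = Ideal.span (⋃ j ∈ Set.Ioi (0 : ℤ), (𝒜' j : Set R')))
    (I' : StarInjRes 𝒜' 𝒜') {E'' : Type u} [AddCommGroup E''] [Module R' E'']
    {𝓔'' : ℤ → AddSubgroup E''} [Decomposition 𝓔''] [SetLike.GradedSMul 𝒜' 𝓔'']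
    {e' : (R' ⧸ m'.toIdeal) →ₗ[R'] E''} (he' : IsStarInjHull 𝒜' (quotGr 𝒜' m') 𝓔'' e')
    {D : Type u} [AddCommGroup D] [Module R' D] {𝒟 : ℤ → AddSubgroup D} [Decomposition 𝒟]
    [SetLike.GradedSMul 𝒜' 𝒟] {g : D →ₛₗ[ψ] C} (hg : IsVero 𝒞 𝒟 q g) :
    IsStarCanonical 𝒜' 𝒟 𝓔'' m' n I' := by
  classical
  haveI := hV.isNoetherianRing
  have hpos' : ∀ n : ℤ, n < 0 → 𝒜' n = ⊥ := fun _ hn => pos_of_vero hV hpos hn
  have h0' := isField_deg0_vero hV h0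
  obtain ⟨hfin, φC, hφC⟩ := hC
  haveI := hfin
  haveI : IsNoetherian R' D := hg.isNoetherian hV
  obtain ⟨γ, hγ⟩ := exists_vero_H hV hmsp hm'sp I (isVero_ring hV) I' n
  obtain ⟨V, G, hG⟩ := exists_vero hV 𝓔
  let soc := LinearEquiv.ofBijective (socleMap he) (socleMap_bijective hpos hmsp hne h0 he)
  let soc' := LinearEquiv.ofBijective (socleMap he') (socleMap_bijective hpos' hm'sp hne' h0' he')
  have hsoc : ∀ w : GrLC.comp 𝒜 𝓔 0, (soc.symm w : R) • e 1 = (w : E') := fun w =>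
    congrArg Subtype.val (soc.apply_symm_apply w)
  have hsoc' : ∀ w : GrLC.comp 𝒜' 𝓔'' 0, (soc'.symm w : R') • e' 1 = (w : E'') := fun w =>
    congrArg Subtype.val (soc'.apply_symm_apply w)
  have hsocj : ∀ c d : GrLC.deg0 𝒜, (c : R) • e 1 = (d : R) • e 1 → c = d := fun c d h =>
    (socleMap_bijective hpos hmsp hne h0 he).1 (Subtype.ext h)
  have hsocj' : ∀ c d : GrLC.deg0 𝒜', (c : R') • e' 1 = (d : R') • e' 1 → c = d := fun c d h =>
    (socleMap_bijective hpos' hm'sp hne' h0' he').1 (Subtype.ext h)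
  have hG0 : ∀ x : GrLC.comp 𝒜' V.gr 0, G (x : V.carrier) ∈ GrLC.comp 𝒜 𝓔 0 := fun x => by
    show G (x : V.carrier) ∈ 𝓔 0
    simpa using hG.map_mem (show (x : V.carrier) ∈ V.gr 0 from x.2)
  let μ₀ : GrLC.comp 𝒜' V.gr 0 → GrLC.comp 𝒜' 𝓔'' 0 := fun x =>
    socleMap he' ((deg0Equiv hV).symm (soc.symm ⟨G (x : V.carrier), hG0 x⟩))
  let μ : GrLC.comp 𝒜' V.gr 0 →ₗ[GrLC.deg0 𝒜'] GrLC.comp 𝒜' 𝓔'' 0 :=
    { toFun := μ₀
      map_add' := fun a b => by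
        show socleMap he' _ = socleMap he' _ + socleMap he' _
        rw [← map_add, ← map_add, ← map_add]
        exact congrArg (fun z => socleMap he' ((deg0Equiv hV).symm (soc.symm z)))
          (Subtype.ext (map_add G _ _))
      map_smul' := fun r a => by
        show socleMap he' _ = r • socleMap he' _
        rw [← map_smul, smul_eq_mul]
        refine congrArg _ ?_
        rw [show (⟨G ((r • a : GrLC.comp 𝒜' V.gr 0) : V.carrier), hG0 (r • a)⟩ : GrLC.comp 𝒜 𝓔 0) =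
            deg0Equiv hV r • ⟨G (a : V.carrier), hG0 a⟩ from Subtype.ext (G.map_smulₛₗ (r : R') _),
          map_smul, smul_eq_mul, map_mul, RingEquiv.symm_apply_apply] }
  obtain ⟨ε, hεdeg, hεμ⟩ := exists_extend_piece (C := V.carrier) hpos' hm'sp he' V.gr 0 0 (add_zero 0) μ
  have hεspec : ∀ (x : V.carrier), x ∈ V.gr 0 → ∀ c : GrLC.deg0 𝒜', G x = ψ (c : R') • e 1 →
      ε x = (c : R') • e' 1 := by
    intro x hx c hc
    refine (hεμ ⟨x, hx⟩).trans ?_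
    show ((deg0Equiv hV).symm (soc.symm ⟨G x, hG0 ⟨x, hx⟩⟩) : R') • e' 1 = _
    rw [show soc.symm ⟨G x, hG0 ⟨x, hx⟩⟩ = deg0Equiv hV c from hsocj _ _ (by
      rw [hsoc, deg0Equiv_apply]; exact hc), RingEquiv.symm_apply_apply]
  let ρ : (C →ₗ[R] E') → (D →ₗ[R'] E'') := fun f =>
    { toFun := fun d => ε (hG.retr (f (g d)))
      map_add' := fun a b => by rw [map_add, map_add, map_add, map_add]
      map_smul' := fun r a => by
        rw [g.map_smulₛₗ, map_smul, hG.retr_smul hV, map_smul]; rfl }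
  have hρadd : ∀ f f', ρ (f + f') = ρ f + ρ f' := fun f f' => LinearMap.ext fun d => by
    show ε (hG.retr (f (g d) + f' (g d))) = _
    rw [map_add, map_add]; rfl
  have hρsmul : ∀ (r : R') f, ρ (ψ r • f) = r • ρ f := fun r f => LinearMap.ext fun d => by
    show ε (hG.retr (ψ r • f (g d))) = _
    rw [hG.retr_smul hV, map_smul]; rfl
  let T : (I'.H m' n) →ₛₗ[ψ] (C →ₗ[R] E') := φC.symm.toLinearMap.comp γ
  let Ψ : (I'.H m' n) →ₗ[R'] (D →ₗ[R'] E'') :=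
    { toFun := fun w => ρ (T w)
      map_add' := fun a b => by rw [map_add, hρadd]
      map_smul' := fun r w => by rw [T.map_smulₛₗ, hρsmul]; rfl }
  have hTmem : ∀ {j : ℤ} {w}, w ∈ I'.Hgr m' n j → T w ∈ homDeg 𝒜 𝒞 𝓔 (j * q) := by
    intro j w hw
    obtain ⟨u, hu, hue⟩ := (map_homDeg_eq hφC (j * q)).ge (hγ.map_mem hw)
    show φC.symm (γ w) ∈ homDeg 𝒜 𝒞 𝓔 (j * q)
    rw [show φC.symm (γ w) = u from φC.symm_apply_eq.2 hue.symm]
    exact hu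
  have hρdeg : ∀ {j : ℤ} {f}, f ∈ homDeg 𝒜 𝒞 𝓔 (j * q) → ρ f ∈ homDeg 𝒜' 𝒟 𝓔'' j := by
    intro j f hf i d hd
    have h1 := hf _ _ (hg.map_mem hd)
    rw [← add_mul] at h1
    have h2 := hεdeg (i + j) _ (hG.retr_mem h1)
    rwa [add_zero] at h2
  -- injectivity and surjectivity on each piece
  have hpinj : ∀ {j : ℤ} {f}, f ∈ homDeg 𝒜 𝒞 𝓔 (j * q) → ρ f = 0 → f = 0 := by
    intro j f hf hf0
    have := (resPiece_bijective (C := C) (𝒞 := 𝒞) hpos hmsp he (j * q) (-j * q) (by ring)).1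
      (a₁ := ⟨f, hf⟩) (a₂ := 0) (LinearMap.ext fun c => Subtype.ext ?_)
    · exact congrArg Subtype.val this
    rw [map_zero]
    show f (c : C) = 0
    obtain ⟨d, hd, hdc⟩ := hg.exists_eq (show (c : C) ∈ 𝒞 (-j * q) from c.2)
    have hfc : f (c : C) ∈ 𝓔 0 := by
      have h := hf _ _ (show (c : C) ∈ 𝒞 (-j * q) from c.2)
      rwa [← add_mul, neg_add_cancel, zero_mul] at h
    obtain ⟨c₀, hc₀⟩ : ∃ c₀ : GrLC.deg0 𝒜', ψ (c₀ : R') • e 1 = f (c : C) := by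
      obtain ⟨b, hb⟩ := (deg0Equiv hV).surjective (soc.symm ⟨f (c : C), hfc⟩)
      exact ⟨b, by rw [← deg0Equiv_apply hV, hb, hsoc]⟩
    have hGr : G (hG.retr (f (c : C))) = f (c : C) := by
      rw [hG.apply_retr, cut_of_mem 𝓔 (dvd_zero _) hfc]
    have h1 : ε (hG.retr (f (c : C))) = (c₀ : R') • e' 1 := hεspec _
      (hG.retr_mem (j := 0) (by rwa [zero_mul])) c₀ (hGr.trans hc₀.symm)
    have h2 : ε (hG.retr (f (c : C))) = 0 := by rw [← hdc]; exact LinearMap.congr_fun hf0 d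
    have h3 : c₀ = 0 := hsocj' _ _ ((h1.symm.trans h2).trans (zero_smul R' (e' 1)).symm)
    rw [← hc₀, h3, ZeroMemClass.coe_zero, map_zero, zero_smul]
  have hpsurj : ∀ {j : ℤ} {h : D →ₗ[R'] E''}, h ∈ homDeg 𝒜' 𝒟 𝓔'' j →
      ∃ w ∈ I'.Hgr m' n j, Ψ w = h := by
    intro j h hh
    have hret : ∀ c : GrLC.comp 𝒜 𝒞 (-j * q), h (hg.retr (c : C)) ∈ GrLC.comp 𝒜' 𝓔'' 0 := fun c => by
      show _ ∈ 𝓔'' 0
      have := hh (-j) _ (hg.retr_mem (show (c : C) ∈ 𝒞 (-j * q) from c.2))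
      rwa [neg_add_cancel] at this
    let ν : GrLC.comp 𝒜 𝒞 (-j * q) →ₗ[GrLC.deg0 𝒜] GrLC.comp 𝒜 𝓔 0 :=
      { toFun := fun c => socleMap he (deg0Equiv hV (soc'.symm ⟨_, hret c⟩))
        map_add' := fun a b => by
          rw [← map_add, ← map_add, ← map_add]
          exact congrArg (fun z => socleMap he (deg0Equiv hV (soc'.symm z)))
            (Subtype.ext (by
              show h (hg.retr ((a : C) + (b : C))) = _
              rw [map_add, map_add]; rfl))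
        map_smul' := fun r a => by
          obtain ⟨r', rfl⟩ := (deg0Equiv hV).surjective r
          rw [RingHom.id_apply, ← map_smul, smul_eq_mul, ← map_mul, ← smul_eq_mul r', ← map_smul]
          refine congrArg (fun z => socleMap he (deg0Equiv hV (soc'.symm z))) (Subtype.ext ?_)
          show h (hg.retr ((deg0Equiv hV r' : R) • (a : C))) = (r' : R') • h (hg.retr (a : C))
          rw [deg0Equiv_apply, hg.retr_smul hV, map_smul] }
    obtain ⟨f, hf, hfν⟩ := exists_extend_piece (C := C) hpos hmsp he 𝒞 (-j * q) (j * q) (by ring) ν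
    obtain ⟨w, hw, hwe⟩ := hγ.exists_eq (hφC (j * q) f hf)
    refine ⟨w, hw, ?_⟩
    show ρ (φC.symm (γ w)) = h
    rw [hwe, show φC.symm (φC.toLinearMap f) = f from φC.symm_apply_apply f]
    refine congrArg Subtype.val ((resPiece_bijective (C := D) (𝒞 := 𝒟) hpos' hm'sp he' j (-j)
      (neg_add_cancel j)).1 (a₁ := ⟨ρ f, hρdeg hf⟩) (a₂ := ⟨h, hh⟩)
      (LinearMap.ext fun d => Subtype.ext ?_))
    show ε (hG.retr (f (g (d : D)))) = h (d : D)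
    have hgd := hg.map_mem (show (d : D) ∈ 𝒟 (-j) from d.2)
    have hfd : f (g (d : D)) = ν ⟨g (d : D), hgd⟩ := hfν ⟨g (d : D), hgd⟩
    have hfd0 : f (g (d : D)) ∈ 𝓔 0 := hfd ▸ (ν ⟨g (d : D), hgd⟩).2
    rw [hεspec (hG.retr (f (g (d : D)))) (hG.retr_mem (j := 0) (by rwa [zero_mul]))
      (soc'.symm ⟨_, hret ⟨g (d : D), hgd⟩⟩) (by
        rw [hG.apply_retr, cut_of_mem 𝓔 (dvd_zero _) hfd0, hfd, ← deg0Equiv_apply hV]; rfl),
      hsoc']
    show h (hg.retr (g (d : D))) = _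
    rw [hg.retr_apply]
  letI := (Hgr_isInternal 𝒜' 𝒜' I' m' n).chooseDecomposition
  have hΨdeg : ∀ {j : ℤ} {w}, w ∈ I'.Hgr m' n j → Ψ w ∈ homDeg 𝒜' 𝒟 𝓔'' j :=
    fun hw => hρdeg (hTmem hw)
  have hpiece : ∀ {j : ℤ} {w}, w ∈ I'.Hgr m' n j → Ψ w = 0 → w = 0 := by
    intro j w hw hw0
    have h1 : φC.symm (γ w) = 0 := hpinj (hTmem hw) hw0
    exact hγ.inj (((φC.symm.map_eq_zero_iff).1 h1).trans (map_zero γ).symm)
  have hinj : Function.Injective Ψ := (injective_iff_map_eq_zero Ψ).2 fun w hw => by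
    refine eq_zero_of_pr (I'.Hgr m' n) fun j => hpiece (pr_mem _ j w) (LinearMap.ext fun d => ?_)
    obtain ⟨s, -, hs⟩ := exists_sum_pr 𝒟 d
    rw [← hs, map_sum, map_sum]
    refine Finset.sum_congr rfl fun i _ => ?_
    rw [LinearMap.zero_apply]
    obtain ⟨t, ht', ht⟩ := exists_sum_pr (I'.Hgr m' n) w
    have h1 : Ψ w (pr 𝒟 i d) = ∑ k ∈ t, Ψ (pr (I'.Hgr m' n) k w) (pr 𝒟 i d) := by
      rw [← LinearMap.sum_apply, ← map_sum, ht]
    have h2 := congrArg (pr 𝓔'' (i + j)) h1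
    rw [hw, LinearMap.zero_apply, map_zero, map_sum, Finset.sum_eq_single j (fun k _ hk => ?_)
      (fun hj => by rw [ht' j hj, map_zero, LinearMap.zero_apply, map_zero])] at h2
    · rw [pr_of_mem 𝓔'' (hΨdeg (pr_mem _ j w) i _ (pr_mem 𝒟 i d))] at h2
      exact h2.symm
    · exact pr_of_mem_ne 𝓔'' (hΨdeg (pr_mem _ k w) i _ (pr_mem 𝒟 i d)) fun e => hk (add_left_cancel e)
  have hsurj : Function.Surjective Ψ := fun h => by
    obtain ⟨S, hS⟩ := exists_sum_degPart 𝒜' 𝒟 𝓔'' h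
    have hd : ∀ k, ∃ w ∈ I'.Hgr m' n k, Ψ w = degPart 𝒜' 𝒟 𝓔'' h k := fun k =>
      hpsurj fun i c hc' => degPart_isGrHom 𝒜' 𝒟 𝓔'' h k (i + k) c (by
        show c ∈ 𝒟 (i + k - k)
        rwa [add_sub_cancel_right])
    choose w _ hw using hd
    exact ⟨∑ k ∈ S, w k, by rw [map_sum, Finset.sum_congr rfl fun k _ => hw k, hS]⟩
  refine ⟨inferInstance, (LinearEquiv.ofBijective Ψ ⟨hinj, hsurj⟩).symm, fun j h hh => ?_⟩
  obtain ⟨w, hw, hwe⟩ := hpsurj hh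
  show (LinearEquiv.ofBijective Ψ ⟨hinj, hsurj⟩).symm h ∈ I'.Hgr m' n j
  rw [show (LinearEquiv.ofBijective Ψ ⟨hinj, hsurj⟩).symm h = w from (LinearEquiv.symm_apply_eq _).2 hwe.symm]
  exact hw

/-- For a Gorenstein graded ring over a field the shift `R(a)` is a canonical module. -/
theorem isStarCanonical_of_top_H_equiv {n : ℕ} {I : StarInjRes 𝒜 𝒜} {m : HomogeneousIdeal 𝒜}
    {E' : Type u} [AddCommGroup E'] [Module R E'] {𝓔 : ℤ → AddSubgroup E'} [Decomposition 𝓔]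
    [SetLike.GradedSMul 𝒜 𝓔] {c : ℤ} (φ : I.H m n ≃ₗ[R] E')
    (hφ : IsGrHomDeg (I.Hgr m n) 𝓔 φ.toLinearMap c) [Decomposition (shiftPc 𝒜 c)]
    [SetLike.GradedSMul 𝒜 (shiftPc 𝒜 c)] :
    IsStarCanonical 𝒜 (shiftPc 𝒜 c) 𝓔 m n I := by
  classical
  letI := (Hgr_isInternal 𝒜 𝒜 I m n).chooseDecomposition
  refine ⟨inferInstance, (LinearMap.ringLmapEquivSelf R R E').trans φ.symm, fun d f hf => ?_⟩
  have h1 : f 1 ∈ 𝓔 (c + d) := hf c 1 (by
    show (1 : R) ∈ 𝒜 (c - c)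
    rw [sub_self]
    exact SetLike.one_mem_graded 𝒜)
  show φ.symm (f 1) ∈ I.Hgr m n d
  obtain ⟨s, hs', hs⟩ := exists_sum_pr (I.Hgr m n) (φ.symm (f 1))
  have h2 := pr_mem (I.Hgr m n) d (φ.symm (f 1))
  suffices h : pr (I.Hgr m n) d (φ.symm (f 1)) = φ.symm (f 1) from h ▸ h2
  refine pr_ext (I.Hgr m n) fun i => ?_
  by_cases hi : i = d
  · subst hi; exact pr_of_mem _ h2
  rw [pr_of_mem_ne _ h2 (Ne.symm hi)]
  apply φ.injective
  rw [map_zero]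
  have h3 := map_pr_deg (I.Hgr m n) 𝓔 hφ i (φ.symm (f 1))
  rw [show φ.toLinearMap (φ.symm (f 1)) = f 1 from φ.apply_symm_apply _] at h3
  exact ((h3.trans (pr_of_mem_ne 𝓔 h1 (by omega)))).symm

end GrothGr.Vero
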