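import Groth.Agent.GrMod.Acyclic

/-!
# Comparison of acyclic resolutions by a mapping cone

Helper library (no milestone statements here).
-/

universe u

open CategoryTheory

namespace GrothGr

variable {A : Type u} [CommRing A] (I : Ideal A)
variable (Y F : ℕ → Type u) [∀ n, AddCommGroup (Y n)] [∀ n, Module A (Y n)]
  [∀ n, AddCommGroup (F n)] [∀ n, Module A (F n)]

/-- `F` shifted up by one, starting with zero. -/
def coneG : ℕ → ModuleCat.{u} A
  | 0 => ModuleCat.of A PUnit.{u+1}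
  | n + 1 => ModuleCat.of A (F n)

variable {Y F} (dY : ∀ n, Y n →ₗ[A] Y (n + 1)) (dF : ∀ n, F n →ₗ[A] F (n + 1))
  (f : ∀ n, Y n →ₗ[A] F n)

/-- The differential of the shifted complex. -/
def coneDG : ∀ n, coneG (A := A) F n →ₗ[A] F n
  | 0 => 0
  | n + 1 => dF n

/-- The differential of the cone. -/
def coneD (n : ℕ) : (Y n × coneG (A := A) F n) →ₗ[A] (Y (n + 1) × coneG (A := A) F (n + 1)) :=
  LinearMap.prod (-(dY n ∘ₗ LinearMap.fst A _ _)) ((f n).coprod (coneDG dF n))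

variable (hdY : ∀ n, LinearMap.ker (dY (n + 1)) = LinearMap.range (dY n))
  (hdF : ∀ n, LinearMap.ker (dF (n + 1)) = LinearMap.range (dF n))
  (hcomm : ∀ n y, f (n + 1) (dY n y) = dF n (f n y))
  (hinj : ∀ y, dY 0 y = 0 → f 0 y = 0 → y = 0)
  (hsurj : ∀ z, dF 0 z = 0 → ∃ y, dY 0 y = 0 ∧ f 0 y = z)

include hdY hdF hcomm hsurj in
theorem coneD_exact (n : ℕ) :
    LinearMap.ker (coneD dY dF f (n + 1)) = LinearMap.range (coneD dY dF f n) := by
  apply le_antisymm
  · rintro ⟨y, z⟩ h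
    change F n at z
    obtain ⟨h1, h2⟩ : -(dY (n + 1) y) = 0 ∧ f (n + 1) y + dF n z = 0 :=
      ⟨congrArg Prod.fst h, congrArg Prod.snd h⟩
    obtain ⟨y', rfl⟩ := (hdY n).le (show y ∈ LinearMap.ker (dY (n + 1)) from neg_eq_zero.1 h1)
    have h3 : dF n (z + f n y') = 0 := by rw [map_add, ← hcomm]; exact (add_comm _ _).trans h2
    cases n with
    | zero =>
      obtain ⟨y₀, hy₀, hy₀'⟩ := hsurj _ h3
      refine ⟨⟨y₀ - y', 0⟩, Prod.ext ?_ ?_⟩
      · show -(dY 0 (y₀ - y')) = dY 0 y'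
        rw [map_sub, hy₀, zero_sub, neg_neg]
      · show f 0 (y₀ - y') + coneDG dF 0 0 = z
        rw [map_zero, add_zero, map_sub, hy₀', add_sub_cancel_right]
    | succ k =>
      obtain ⟨w, hw⟩ := (hdF k).le (show z + f (k + 1) y' ∈ LinearMap.ker (dF (k + 1)) from h3)
      refine ⟨⟨-y', w⟩, Prod.ext ?_ ?_⟩
      · show -(dY (k + 1) (-y')) = dY (k + 1) y'
        rw [map_neg, neg_neg]
      · show f (k + 1) (-y') + dF k w = z
        rw [hw, map_neg, neg_add_eq_sub, add_sub_cancel_right]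
  · rintro _ ⟨⟨y, z⟩, rfl⟩
    refine Prod.ext ?_ ?_
    · show -(dY (n + 1) (-(dY n y))) = 0
      rw [map_neg, neg_neg]
      exact (hdY n).ge ⟨y, rfl⟩
    · show f (n + 1) (-(dY n y)) + dF n (f n y + coneDG dF n z) = 0
      have hz : dF n (coneDG dF n z) = 0 := by
        cases n with
        | zero => exact map_zero _
        | succ k => exact (hdF k).ge ⟨z, rfl⟩
      rw [map_neg, hcomm, map_add, hz, add_zero, neg_add_cancel]

theorem subsingleton_H_prod [IsNoetherianRing A] {M N : Type u} [AddCommGroup M] [Module A M] [AddCommGroup N]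
    [Module A N] (i : ℕ) (h₁ : Subsingleton (LocCoh.H I i M)) (h₂ : Subsingleton (LocCoh.H I i N)) :
    Subsingleton (LocCoh.H I i (M × N)) :=
  Groth.LocCohBase.subsingleton_X₂ (GrothGoren.seqCx_shortExact (LinearMap.inl A M N)
    (LinearMap.snd A M N) Function.Exact.inl_snd LinearMap.inl_injective LinearMap.snd_surjective)
    i h₁ h₂

variable [IsNoetherianRing A] (hY : ∀ n j : ℕ, Subsingleton (LocCoh.H I (j + 1) (Y n)))
  (hF : ∀ n j : ℕ, Subsingleton (LocCoh.H I (j + 1) (F n)))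

include hY hF in
theorem cone_acyclic (n j : ℕ) :
    Subsingleton (LocCoh.H I (j + 1) (Y n × coneG (A := A) F n)) := by
  refine subsingleton_H_prod I _ (hY n j) ?_
  cases n with
  | zero =>
    show Subsingleton (LocCoh.H I (j + 1) PUnit.{u+1})
    exact Groth.LocCohBase.subsingleton_succ_of_isPowerTorsion I j _
      fun x => ⟨0, fun r _ => Subsingleton.elim _ _⟩
  | succ k => exact hF k j

include hdY hdF hcomm hinj hsurj hY hF in
/-- A torsion cocycle of the cone is a torsion coboundary. -/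
theorem cone_cyc_exact (n : ℕ) (x : Y (n + 1) × coneG (A := A) F (n + 1))
    (hx : x ∈ GrLC.gam I _) (hx0 : coneD dY dF f (n + 1) x = 0) :
    ∃ w ∈ GrLC.gam I (Y n × coneG (A := A) F n), coneD dY dF f n w = x := by
  have hX := cone_acyclic (A := A) I hY hF
  have hd := coneD_exact dY dF f hdY hdF hcomm hsurj
  obtain ⟨e⟩ := cyc_quotient I (X := fun n => Y n × coneG (A := A) F n) (d := coneD dY dF f) hd hX n
  obtain ⟨e'⟩ := iso_one I (X := fun n => Y n × coneG (A := A) F n) (d := coneD dY dF f) hd hX n 0 n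
    (zero_add n).symm
  have h0 : LinearMap.ker (coneD dY dF f 0) = ⊥ := by
    rw [LinearMap.ker_eq_bot']
    rintro ⟨y, z⟩ h
    obtain ⟨h1, h2⟩ : -(dY 0 y) = 0 ∧ f 0 y + coneDG dF 0 z = 0 :=
      ⟨congrArg Prod.fst h, congrArg Prod.snd h⟩
    have hz : z = 0 := @Subsingleton.elim _ (inferInstanceAs (Subsingleton PUnit.{u+1})) _ _
    subst hz
    rw [map_zero, add_zero] at h2
    rw [hinj y (neg_eq_zero.1 h1) h2]
    rfl
  haveI : Subsingleton (LinearMap.ker (coneD dY dF f 0)) := by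
    rw [h0]; infer_instance
  haveI : Subsingleton (LocCoh.H I (n + 1) (LinearMap.ker (coneD dY dF f 0))) :=
    Groth.LocCohBase.subsingleton_succ_of_isPowerTorsion I n _
      fun x => ⟨0, fun r _ => Subsingleton.elim _ _⟩
  haveI := (e.trans e'.symm).toEquiv.subsingleton
  obtain ⟨w, hw, hwx⟩ := (Submodule.Quotient.mk_eq_zero _).1
    (Subsingleton.elim (Submodule.Quotient.mk (p := ((GrLC.gam I _).map (coneD dY dF f n)).comap
      (cyc I (fun n => Y n × coneG (A := A) F n) (coneD dY dF f) (n + 1)).subtype) ⟨x, hx, hx0⟩) 0)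
  exact ⟨w, hw, hwx⟩

include hdY hdF hcomm hinj hsurj hY hF in
/-- A torsion cocycle of `F` comes from one of `Y`, up to a torsion coboundary. -/
theorem comparison_surjective (i : ℕ) (z : F i) (hz : z ∈ GrLC.gam I (F i)) (hz0 : dF i z = 0) :
    ∃ y, y ∈ GrLC.gam I (Y i) ∧ dY i y = 0 ∧ ∃ w : coneG (A := A) F i,
      w ∈ GrLC.gam I _ ∧ z = f i y + coneDG dF i w := by
  obtain ⟨k, hk⟩ := hz
  obtain ⟨⟨y, w⟩, ⟨t, ht⟩, he⟩ := cone_cyc_exact I dY dF f hdY hdF hcomm hinj hsurj hY hF i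
    ((0, z) : Y (i + 1) × F i) ⟨k, fun r hr => Prod.ext (smul_zero r) (hk r hr)⟩ (Prod.ext
      (by show -(dY (i + 1) 0) = 0; rw [map_zero, neg_zero])
      (by show f (i + 1) 0 + dF i z = 0; rw [map_zero, hz0, add_zero]))
  exact ⟨y, ⟨t, fun r hr => congrArg Prod.fst (ht r hr)⟩, neg_eq_zero.1 (congrArg Prod.fst he), w,
    ⟨t, fun r hr => congrArg Prod.snd (ht r hr)⟩, (congrArg Prod.snd he).symm⟩

include hdY hdF hcomm hinj hsurj hY hF in
/-- A torsion cocycle of `Y` becoming a torsion coboundary in `F` is a torsion coboundary. -/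
theorem comparison_injective (n : ℕ) (y : Y (n + 1)) (hy : y ∈ GrLC.gam I (Y (n + 1)))
    (hy0 : dY (n + 1) y = 0) (w : F n) (hw : w ∈ GrLC.gam I (F n))
    (he : f (n + 1) y = dF n w) : ∃ y' ∈ GrLC.gam I (Y n), dY n y' = y := by
  obtain ⟨k, hk⟩ := hy
  obtain ⟨l, hl⟩ := hw
  obtain ⟨⟨y', w'⟩, ⟨t, ht⟩, h⟩ := cone_cyc_exact I dY dF f hdY hdF hcomm hinj hsurj hY hF n
    ((-y, w) : Y (n + 1) × F n) ⟨k + l, fun r hr => Prod.ext
      (by show r • (-y) = 0; rw [smul_neg, hk r (Ideal.pow_le_pow_right (Nat.le_add_right k l) hr), neg_zero])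
      (hl r (Ideal.pow_le_pow_right (Nat.le_add_left l k) hr))⟩ (Prod.ext
      (by show -(dY (n + 1) (-y)) = 0; rw [map_neg, hy0, neg_zero, neg_zero])
      (by show f (n + 1) (-y) + dF n w = 0; rw [map_neg, he, neg_add_cancel]))
  exact ⟨y', ⟨t, fun r hr => congrArg Prod.fst (ht r hr)⟩, neg_inj.1 (congrArg Prod.fst h)⟩

end GrothGr
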