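import Groth.Agent.GrMod.Veronese.Construct
import Groth.Agent.GrMod.Veronese.Cone
import Groth.Agent.GrMod.Compare

/-!
# Graded local cohomology of Veronese submodules

Helper library (no milestone statements here).
-/

universe u

open DirectSum GrLC

namespace GrothGr

/-- A chain map from an exact complex into a *injective resolution, over the identity. -/
theorem exists_chainMap {ι : Type} [AddCommGroup ι] [DecidableEq ι] {R : Type u} [CommRing R]
    (𝒜 : ι → AddSubgroup R) [GradedRing 𝒜] {M : Type u} [AddCommGroup M] [Module R M]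
    {ℳ : ι → AddSubgroup M} [Decomposition ℳ] [SetLike.GradedSMul 𝒜 ℳ] (Y : ℕ → GMod.{u} 𝒜)
    (dY : ∀ n, (Y n).carrier →ₗ[R] (Y (n + 1)).carrier) (εY : M →ₗ[R] (Y 0).carrier)
    (hd : ∀ n, IsGrHom (Y n).gr (Y (n + 1)).gr (dY n)) (hε : IsGrHom ℳ (Y 0).gr εY)
    (hinj : Function.Injective εY) (h0 : LinearMap.ker (dY 0) = LinearMap.range εY)
    (h1 : ∀ n, LinearMap.ker (dY (n + 1)) = LinearMap.range (dY n)) (F : StarInjRes 𝒜 ℳ) :
    ∃ f : ∀ n, (Y n).carrier →ₗ[R] (F.X n).carrier,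
      (∀ n, IsGrHom (Y n).gr (F.X n).gr (f n)) ∧ (∀ m, f 0 (εY m) = F.ε m) ∧
      ∀ n y, f (n + 1) (dY n y) = F.d n (f n y) := by
  obtain ⟨f₀, hf₀, hf₀ε⟩ := F.starInj 0 (GMod.of 𝒜 M ℳ) (Y 0) εY hε hinj F.ε F.ε_grHom
  have hf₀ε' : ∀ m, f₀ (εY m) = F.ε m := fun m => LinearMap.congr_fun hf₀ε m
  let P : ∀ n, ((Y n).carrier →ₗ[R] (F.X n).carrier) → Prop := fun n f =>
    IsGrHom (Y n).gr (F.X n).gr f ∧ LinearMap.ker (dY n) ≤ LinearMap.ker (F.d n ∘ₗ f)
  have hP0 : P 0 f₀ := by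
    refine ⟨hf₀, fun x hx => ?_⟩
    rw [h0] at hx
    obtain ⟨m, rfl⟩ := hx
    show F.d 0 (f₀ (εY m)) = 0
    rw [hf₀ε']
    exact LinearMap.mem_ker.1 (F.exact_zero.ge ⟨m, rfl⟩)
  have hstep : ∀ n f, P n f → ∃ g, P (n + 1) g ∧ g ∘ₗ dY n = F.d n ∘ₗ f := by
    intro n f hf
    obtain ⟨g, hg, hgd⟩ := exists_lift_of_ker_le 𝒜 (Y n).gr (Y (n + 1)).gr (F.X (n + 1)).gr
      (F.starInj (n + 1)) (hd n) (IsGrHom.comp (F.d_grHom n) hf.1) hf.2
    refine ⟨g, ⟨hg, fun x hx => ?_⟩, hgd⟩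
    rw [h1] at hx
    obtain ⟨y, rfl⟩ := hx
    show F.d (n + 1) (g (dY n y)) = 0
    rw [show g (dY n y) = F.d n (f y) from LinearMap.congr_fun hgd y]
    exact LinearMap.mem_ker.1 ((F.exact_succ n).ge ⟨f y, rfl⟩)
  choose g hg hgd using hstep
  let seq : ∀ n, {f // P n f} := fun n => Nat.rec (motive := fun n => {f // P n f}) ⟨f₀, hP0⟩
    (fun k a => ⟨g k a.1 a.2, hg k a.1 a.2⟩) n
  exact ⟨fun n => (seq n).1, fun n => (seq n).2.1, hf₀ε',
    fun n x => LinearMap.congr_fun (hgd n (seq n).1 (seq n).2) x⟩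

namespace Vero

variable {R : Type u} [CommRing R] [IsNoetherianRing R] {𝒜 : ℤ → AddSubgroup R} [GradedRing 𝒜]
variable {R' : Type u} [CommRing R'] {𝒜' : ℤ → AddSubgroup R'} [GradedRing 𝒜'] {φ : R' →+* R}
variable {q : ℕ}

/-- `H_{m'}(M^(q)) = H_m(M)^(q)`. -/
theorem exists_vero_H (hV : IsVeroRing 𝒜 𝒜' φ q) {m : HomogeneousIdeal 𝒜}
    (hmsp : m.toIdeal = Ideal.span (⋃ n ∈ Set.Ioi (0 : ℤ), (𝒜 n : Set R)))
    {m' : HomogeneousIdeal 𝒜'}
    (hm'sp : m'.toIdeal = Ideal.span (⋃ j ∈ Set.Ioi (0 : ℤ), (𝒜' j : Set R')))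
    {M : Type u} [AddCommGroup M] [Module R M] {ℳ : ℤ → AddSubgroup M} [Decomposition ℳ]
    [SetLike.GradedSMul 𝒜 ℳ] (E : StarInjRes 𝒜 ℳ)
    {M' : Type u} [AddCommGroup M'] [Module R' M'] {ℳ' : ℤ → AddSubgroup M'} [Decomposition ℳ']
    [SetLike.GradedSMul 𝒜' ℳ'] {g : M' →ₛₗ[φ] M} (hg : IsVero ℳ ℳ' q g) (F : StarInjRes 𝒜' ℳ')
    (p : ℕ) :
    ∃ γ : F.H m' p →ₛₗ[φ] E.H m p, IsVero (E.Hgr m p) (F.Hgr m' p) q γ := by
  classical
  haveI := hV.isNoetherianRing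
  choose V G hG using fun n => exists_vero hV (E.X n).gr
  have hdG : ∀ (n : ℕ) (x : (V n).carrier),
      G (n + 1) ((hG (n + 1)).retr (E.d n (G n x))) = E.d n (G n x) := fun n x => by
    rw [(hG (n + 1)).apply_retr, cut_map _ _ (E.d_grHom n), (hG n).cut_apply]
  let dV : ∀ n, (V n).carrier →ₗ[R'] (V (n + 1)).carrier := fun n =>
    { toFun := fun x => (hG (n + 1)).retr (E.d n (G n x))
      map_add' := fun a b => by rw [map_add, map_add, map_add]
      map_smul' := fun r a => by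
        rw [(G n).map_smulₛₗ, map_smul, (hG (n + 1)).retr_smul hV]; rfl }
  have hGd : ∀ n x, G (n + 1) (dV n x) = E.d n (G n x) := hdG
  let εV : M' →ₗ[R'] (V 0).carrier :=
    { toFun := fun x => (hG 0).retr (E.ε (g x))
      map_add' := fun a b => by rw [map_add, map_add, map_add]
      map_smul' := fun r a => by rw [g.map_smulₛₗ, map_smul, (hG 0).retr_smul hV]; rfl }
  have hGε : ∀ x, G 0 (εV x) = E.ε (g x) := fun x => by
    show G 0 ((hG 0).retr (E.ε (g x))) = _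
    rw [(hG 0).apply_retr, cut_map _ _ E.ε_grHom, hg.cut_apply]
  have hdgr : ∀ n, IsGrHom (V n).gr (V (n + 1)).gr (dV n) := fun n j x hx =>
    (hG (n + 1)).retr_mem (E.d_grHom n _ _ ((hG n).map_mem hx))
  have hεgr : IsGrHom ℳ' (V 0).gr εV := fun j x hx =>
    (hG 0).retr_mem (E.ε_grHom _ _ (hg.map_mem hx))
  have hεinj : Function.Injective εV := fun a b h => hg.inj (E.ε_injective
    ((hGε a).symm.trans ((congrArg (G 0) h).trans (hGε b))))
  have h0 : LinearMap.ker (dV 0) = LinearMap.range εV := by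
    refine le_antisymm (fun x hx => ?_) ?_
    · have h : E.d 0 (G 0 x) = 0 := by rw [← hGd, LinearMap.mem_ker.1 hx, map_zero]
      obtain ⟨w, hw⟩ := E.exact_zero.le h
      exact ⟨hg.retr w, (hG 0).inj (by
        rw [hGε, hg.apply_retr, ← cut_map _ _ E.ε_grHom, hw, (hG 0).cut_apply])⟩
    · rintro _ ⟨x, rfl⟩
      refine LinearMap.mem_ker.2 ((hG 1).inj ?_)
      rw [hGd, hGε, map_zero]
      exact E.exact_zero.ge ⟨g x, rfl⟩
  have h1 : ∀ n, LinearMap.ker (dV (n + 1)) = LinearMap.range (dV n) := fun n => by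
    refine le_antisymm (fun x hx => ?_) ?_
    · have h : E.d (n + 1) (G (n + 1) x) = 0 := by rw [← hGd, LinearMap.mem_ker.1 hx, map_zero]
      obtain ⟨w, hw⟩ := (E.exact_succ n).le h
      exact ⟨(hG n).retr w, (hG (n + 1)).inj (by
        rw [hGd, (hG n).apply_retr, ← cut_map _ _ (E.d_grHom n), hw, (hG (n + 1)).cut_apply])⟩
    · rintro _ ⟨x, rfl⟩
      refine LinearMap.mem_ker.2 ((hG (n + 2)).inj ?_)
      rw [hGd, hGd, map_zero]
      exact (E.exact_succ n).ge ⟨G n x, rfl⟩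
  obtain ⟨f, hf, hfε, hcomm⟩ := exists_chainMap 𝒜' V dV εV hdgr hεgr hεinj h0 h1 F
  have hinj : ∀ y, dV 0 y = 0 → f 0 y = 0 → y = 0 := fun y hy hfy => by
    obtain ⟨x, rfl⟩ := h0.le hy
    rw [F.ε_injective (((hfε x).symm.trans hfy).trans (map_zero F.ε).symm), map_zero]
  have hsurj : ∀ z, F.d 0 z = 0 → ∃ y, dV 0 y = 0 ∧ f 0 y = z := fun z hz => by
    obtain ⟨x, rfl⟩ := F.exact_zero.le hz
    exact ⟨εV x, LinearMap.mem_ker.1 (h0.ge ⟨x, rfl⟩), hfε x⟩
  have hYa : ∀ n j : ℕ, Subsingleton (LocCoh.H m'.toIdeal (j + 1) (V n).carrier) := fun n j =>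
    subsingleton_H_vero hV hm'sp (E.starInj n) (hG n) j
  have hFa : ∀ n j : ℕ, Subsingleton (LocCoh.H m'.toIdeal (j + 1) (F.X n).carrier) := fun n j =>
    subsingleton_H_of_isStarInj 𝒜' (F.X n).gr (F.starInj n) m' j
  let Z := cyc m'.toIdeal (fun n => (V n).carrier) dV p
  let a : Z →ₗ[R'] F.H m' p := (F.toH m' p) ∘ₗ (f p).restrict (p := Z) (q := F.cocyc m' p)
    fun x hx => ⟨map_gam _ _ hx.1, by
      show F.d p (f p x) = 0
      rw [← hcomm, show dV p x = 0 from hx.2, map_zero]⟩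
  have hGcoc : ∀ x : Z, G p (x : (V p).carrier) ∈ E.cocyc m p := fun x =>
    ⟨((hG p).mem_gam_iff hV hmsp hm'sp _).2 x.2.1, by
      show E.d p (G p (x : (V p).carrier)) = 0
      rw [← hGd, show dV p (x : (V p).carrier) = 0 from x.2.2, map_zero]⟩
  let b : Z →ₛₗ[φ] E.H m p :=
    { toFun := fun x => E.toH m p ⟨G p (x : (V p).carrier), hGcoc x⟩
      map_add' := fun x y => by
        rw [← map_add]
        exact congrArg _ (Subtype.ext (map_add (G p) _ _))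
      map_smul' := fun r x => by
        rw [← map_smul]
        exact congrArg _ (Subtype.ext ((G p).map_smulₛₗ r _)) }
  have hdec : ∀ {w : (F.X p).carrier}, w ∈ GrLC.gam m'.toIdeal _ → F.d p w = 0 →
      ∃ y : Z, w - f p y ∈ F.cobdy m' p := by
    intro w hw hw0
    obtain ⟨y, hy, hy0, c, hc, he⟩ := comparison_surjective m'.toIdeal dV F.d f h1 F.exact_succ
      hcomm hinj hsurj hYa hFa p w hw hw0
    refine ⟨⟨y, hy, hy0⟩, ?_⟩
    show w - f p y ∈ F.cobdy m' p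
    rw [he, add_sub_cancel_left]
    cases p with
    | zero => exact zero_mem _
    | succ n => exact ⟨c, hc, rfl⟩
  have hasurj : Function.Surjective a := fun c => by
    obtain ⟨⟨w, hw⟩, rfl⟩ := Submodule.mkQ_surjective _ c
    obtain ⟨y, hy⟩ := hdec hw.1 hw.2
    refine ⟨y, ((Submodule.Quotient.eq _).2 ?_).symm⟩
    exact hy
  have hker : ∀ x : Z, a x = 0 ↔ b x = 0 := fun x => by
    refine (Submodule.Quotient.mk_eq_zero _).trans (Iff.trans ?_ (Submodule.Quotient.mk_eq_zero _).symm)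
    show f p (x : (V p).carrier) ∈ F.cobdy m' p ↔ G p (x : (V p).carrier) ∈ E.cobdy m p
    cases p with
    | zero =>
      show f 0 (x : (V 0).carrier) ∈ (⊥ : Submodule R' _) ↔ G 0 (x : (V 0).carrier) ∈ (⊥ : Submodule R _)
      rw [Submodule.mem_bot, Submodule.mem_bot]
      refine ⟨fun h => ?_, fun h => ?_⟩
      · rw [hinj _ x.2.2 h, map_zero]
      · rw [(hG 0).inj (h.trans (map_zero (G 0)).symm), map_zero]
    | succ n =>
      constructor
      · rintro ⟨w, hw, hwe⟩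
        obtain ⟨y', hy', he⟩ := comparison_injective m'.toIdeal dV F.d f h1 F.exact_succ hcomm hinj
          hsurj hYa hFa n _ x.2.1 x.2.2 w hw hwe.symm
        exact ⟨G n y', ((hG n).mem_gam_iff hV hmsp hm'sp _).2 hy', by rw [← hGd, he]⟩
      · rintro ⟨w, hw, hwe⟩
        refine ⟨f n ((hG n).retr w), map_gam _ _ ((hG n).retr_mem_gam hV hmsp hm'sp hw), ?_⟩
        rw [← hcomm]
        refine congrArg _ ((hG (n + 1)).inj ?_)
        rw [hGd, (hG n).apply_retr, ← cut_map _ _ (E.d_grHom n), hwe, (hG (n + 1)).cut_apply]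
  let b' : (Z ⧸ LinearMap.ker a) →ₛₗ[φ] E.H m p := (LinearMap.ker a).liftQ b fun x hx =>
    LinearMap.mem_ker.2 ((hker x).1 (LinearMap.mem_ker.1 hx))
  let γ : F.H m' p →ₛₗ[φ] E.H m p :=
    b'.comp (a.quotKerEquivOfSurjective hasurj).symm.toLinearMap
  have hγ : ∀ y, γ (a y) = b y := fun y => by
    show b' ((a.quotKerEquivOfSurjective hasurj).symm (a y)) = b y
    rw [show (a.quotKerEquivOfSurjective hasurj).symm (a y) = Submodule.Quotient.mk y from
      (LinearEquiv.symm_apply_eq _).2 rfl]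
    rfl
  refine ⟨γ, (injective_iff_map_eq_zero γ).2 fun c hc => ?_, fun j => ?_⟩
  · obtain ⟨y, rfl⟩ := hasurj c
    rw [hγ] at hc
    exact (hker y).2 hc
  · ext x
    constructor
    · rintro ⟨c, ⟨⟨w, hw⟩, hwj, rfl⟩, rfl⟩
      obtain ⟨y, hy⟩ := hdec hw.1 hw.2
      have hyj : pr (V p).gr j (y : (V p).carrier) ∈ Z :=
        isHomogeneous_inf (isHomogeneous_gam 𝒜' (V p).gr m'.isHomogeneous)
          (isHomogeneous_ker (hdgr p)) j y.2
      have hc : F.toH m' p ⟨w, hw⟩ = a ⟨_, hyj⟩ := by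
        refine (Submodule.Quotient.eq _).2 ?_
        show w - f p (pr (V p).gr j (y : (V p).carrier)) ∈ F.cobdy m' p
        have h := pr_mem_of_isHomogeneous (isHomogeneous_cobdy 𝒜' ℳ' F m' p) hy j
        rwa [map_sub, pr_of_mem _ hwj, ← GrothGr.map_pr _ _ (hf p)] at h
      show γ (F.toH m' p ⟨w, hw⟩) ∈ E.Hgr m p (j * q)
      rw [hc, hγ]
      exact ⟨⟨_, hGcoc ⟨_, hyj⟩⟩, (hG p).map_mem (pr_mem (V p).gr j _), rfl⟩
    · rintro ⟨⟨z, hz⟩, hzj, rfl⟩
      obtain ⟨y, hyj, hy⟩ := (hG p).exists_eq (show z ∈ (E.X p).gr (j * q) from hzj)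
      have hyZ : y ∈ Z := ⟨((hG p).mem_gam_iff hV hmsp hm'sp _).1 (hy ▸ hz.1), by
        refine (hG (p + 1)).inj ?_
        rw [hGd, hy, map_zero]
        exact hz.2⟩
      refine ⟨a ⟨y, hyZ⟩, ⟨⟨f p y, _⟩, hf p j y hyj, rfl⟩, ?_⟩
      show γ (a ⟨y, hyZ⟩) = _
      rw [hγ]
      show E.toH m p ⟨G p y, _⟩ = _
      exact congrArg (E.toH m p) (Subtype.ext hy)

end Vero

end GrothGr
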