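import Groth.Agent.GrMod.Veronese.Irrelevant
import Groth.Agent.GrMod.Ext
import Groth.Agent.GrMod.LocCoh
import Groth.Agent.LocCohTransform.Independence

/-!
# Construction of Veronese submodules, acyclicity

Helper library (no milestone statements here).
-/

universe u

open DirectSum GrLC CategoryTheory

namespace GrothGr.Vero

variable {R : Type u} [CommRing R] {𝒜 : ℤ → AddSubgroup R} [GradedRing 𝒜]
variable {R' : Type u} [CommRing R'] {𝒜' : ℤ → AddSubgroup R'} [GradedRing 𝒜'] {φ : R' →+* R}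
variable {q : ℕ} (hV : IsVeroRing 𝒜 𝒜' φ q)

include hV in
open Classical in
/-- Every graded module has a Veronese submodule. -/
theorem exists_vero {M : Type u} [AddCommGroup M] [Module R M] (ℳ : ℤ → AddSubgroup M)
    [Decomposition ℳ] [SetLike.GradedSMul 𝒜 ℳ] :
    ∃ (V : GMod.{u} 𝒜') (g : V.carrier →ₛₗ[φ] M), IsVero ℳ V.gr q g := by
  letI : Module R' M := Module.compHom M φ
  have hsm : ∀ (r : R') (x : M), r • x = φ r • x := fun _ _ => rfl
  let S : Submodule R' M :=
    { carrier := {x | cut ℳ q x = x}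
      add_mem' := fun {a b} ha hb => by simp only [Set.mem_setOf_eq, map_add] at *; rw [ha, hb]
      zero_mem' := map_zero (cut ℳ q)
      smul_mem' := fun r x hx => by
        simp only [Set.mem_setOf_eq] at *
        rw [hsm, hV.cut_smul ℳ, hx] }
  let pc : ℤ → AddSubgroup S := fun j => (ℳ (j * q)).comap S.subtype.toAddMonoidHom
  have hq : (q : ℤ) ≠ 0 := by exact_mod_cast hV.pos.ne'
  have hint : DirectSum.IsInternal pc := by
    refine isInternal_of _ (fun x => ?_) fun s v hv hsum j hj => ?_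
    · obtain ⟨s, -, hs⟩ := exists_sum_pr ℳ (x : M)
      have hmem : ∀ d, pr ℳ d (x : M) ∈ S := fun d => by
        show cut ℳ q (pr ℳ d (x : M)) = pr ℳ d (x : M)
        refine cut_eq_self_of_forall ℳ fun i hi => ?_
        by_cases hdi : d = i
        · subst hdi
          rw [pr_of_mem ℳ (pr_mem ℳ d (x : M))]
          have := congrArg (pr ℳ d) x.2
          rw [pr_cut, if_neg hi] at this
          exact this.symm
        · exact pr_of_mem_ne ℳ (pr_mem ℳ d (x : M)) hdi
      have hx : x = ∑ d ∈ s, (⟨pr ℳ d (x : M), hmem d⟩ : S) := Subtype.ext (by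
        rw [AddSubmonoidClass.coe_finsetSum]; exact hs.symm)
      rw [hx]
      refine sum_mem fun d _ => ?_
      by_cases hd : (q : ℤ) ∣ d
      · obtain ⟨j, rfl⟩ := dvd_iff_exists_eq_mul_left.1 hd
        exact AddSubgroup.mem_iSup_of_mem j (pr_mem ℳ _ (x : M))
      · have : pr ℳ d (x : M) = 0 := by
          have := congrArg (pr ℳ d) x.2
          rw [pr_cut, if_neg hd] at this
          exact this.symm
        rw [show (⟨pr ℳ d (x : M), hmem d⟩ : S) = 0 from Subtype.ext this]
        exact zero_mem _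
    · apply Subtype.ext
      have h0 : ∑ i ∈ s, (v i : M) = 0 := by
        rw [← AddSubmonoidClass.coe_finsetSum, hsum, ZeroMemClass.coe_zero]
      have hv' : ∀ i, (v i : M) ∈ ℳ (i * q) := hv
      have h1 : pr ℳ (j * q) (∑ i ∈ s, (v i : M)) = (v j : M) := by
        rw [map_sum, Finset.sum_eq_single j
          (fun i _ hne => pr_of_mem_ne ℳ (hv' i) fun e => hne (mul_right_cancel₀ hq e))
          (fun h => absurd hj h), pr_of_mem ℳ (hv' j)]
      rw [h0, map_zero] at h1
      exact h1.symm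
  refine ⟨mkGMod 𝒜' S pc hint fun a j r x hr hx => ?_,
    { toFun := fun x : S => (x : M)
      map_add' := fun _ _ => rfl
      map_smul' := fun _ _ => rfl }, fun a b h => Subtype.ext h, fun j => ?_⟩
  · show φ r • (x : M) ∈ ℳ ((a + j) * q)
    rw [add_mul]
    exact smul_mem ℳ 𝒜 (hV.map_mem hr) hx
  · ext x
    constructor
    · rintro ⟨y, hy, rfl⟩
      exact hy
    · intro hx
      exact ⟨⟨x, cut_of_mem ℳ (dvd_mul_left _ _) hx⟩, hx, rfl⟩

variable [IsNoetherianRing R] [IsNoetherianRing R']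
  {m : HomogeneousIdeal 𝒜} {m' : HomogeneousIdeal 𝒜'}

include hV in
/-- The Veronese submodule of a *injective module is acyclic for `Γ_{m'}`. -/
theorem subsingleton_H_vero (hm'sp : m'.toIdeal = Ideal.span (⋃ j ∈ Set.Ioi (0 : ℤ), (𝒜' j : Set R')))
    {I : Type u} [AddCommGroup I] [Module R I] {ℐ : ℤ → AddSubgroup I} [Decomposition ℐ]
    [SetLike.GradedSMul 𝒜 ℐ] (hI : IsStarInj 𝒜 ℐ) {V : Type u} [AddCommGroup V] [Module R' V]
    {𝒱 : ℤ → AddSubgroup V} [Decomposition 𝒱] [SetLike.GradedSMul 𝒜' 𝒱] {g : V →ₛₗ[φ] I}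
    (h : IsVero ℐ 𝒱 q g) (i : ℕ) :
    Subsingleton (LocCoh.H m'.toIdeal (i + 1) V) := by
  letI := φ.toAlgebra
  letI : Module R' I := Module.compHom I φ
  haveI : IsScalarTower R' R I := IsScalarTower.of_algebraMap_smul fun _ _ => rfl
  have h1 : Subsingleton (LocCoh.H (m'.toIdeal.map (algebraMap R' R)) (i + 1) I) :=
    subsingleton_H_of_isStarInj 𝒜 ℐ hI (extIdeal φ m' (isHomogeneous_map hV hm'sp)) i
  obtain ⟨ε, -⟩ := Groth.LocCohTransform.exists_restrict_addEquiv (R := R') (R' := R) m'.toIdeal I (i + 1)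
  haveI h2 : Subsingleton (LocCoh.H m'.toIdeal (i + 1) I) := ε.symm.subsingleton
  let gl : V →ₗ[R'] I :=
    { toFun := g
      map_add' := map_add g
      map_smul' := fun r x => g.map_smulₛₗ r x }
  let π : I →ₗ[R'] V :=
    { toFun := h.retr
      map_add' := map_add h.retr
      map_smul' := fun r x => h.retr_smul hV r x }
  refine subsingleton_of_forall_eq 0 fun x => ?_
  have hid : ModuleCat.ofHom gl ≫ ModuleCat.ofHom π = 𝟙 (ModuleCat.of R' V) := by
    ext v
    exact h.retr_apply v
  have hx : ((localCohomology m'.toIdeal (i + 1)).map (ModuleCat.ofHom π)).hom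
      (((localCohomology m'.toIdeal (i + 1)).map (ModuleCat.ofHom gl)).hom x) = x := by
    rw [← ModuleCat.comp_apply, ← CategoryTheory.Functor.map_comp, hid,
      CategoryTheory.Functor.map_id]
    rfl
  rw [← hx, @Subsingleton.elim _ h2 (((localCohomology m'.toIdeal (i + 1)).map (ModuleCat.ofHom gl)).hom x) 0,
    map_zero]

end GrothGr.Vero
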