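import Groth.Agent.GrMod.Veronese.Iff
import Groth.Agent.GrMod.TopSpan
import Groth.Agent.S18637
import Mathlib.RingTheory.KrullDimension.NonZeroDivisors
import Mathlib.Data.Int.LeastGreatest

/-!
# A Gorenstein Veronese subring forces the ring to be Gorenstein

Helper library (no milestone statements here).
-/

universe u

open DirectSum GrLC CategoryTheory
open scoped Pointwise

namespace GrothGr

variable {R : Type u} [CommRing R] {𝒜 : ℤ → AddSubgroup R} [GradedRing 𝒜]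

/-- In dimension at least one nothing nonzero kills a whole positive piece. -/
theorem eq_zero_of_mul_piece [LocCoh.IsCohenMacaulayRing R] (hpos : ∀ n : ℤ, n < 0 → 𝒜 n = ⊥)
    (hstd : Ideal.span (⋃ n ∈ Set.Ioi (0 : ℤ), (𝒜 n : Set R)) = Ideal.span ((𝒜 1 : AddSubgroup R) : Set R))
    (h0 : IsField (GrLC.deg0 𝒜)) (h1 : 1 ≤ ringKrullDim R) :
    ∀ (k : ℕ) {c : R}, (∀ s ∈ 𝒜 (k : ℤ), c * s = 0) → c = 0 := by
  intro k
  induction k with
  | zero => intro c hc; simpa using hc 1 (by rw [Nat.cast_zero]; exact SetLike.one_mem_graded 𝒜)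
  | succ k ih =>
    intro c hc
    refine ih fun s hs => eq_zero_of_forall_mul_eq_zero 𝒜 hpos hstd h0 h1 fun y hy => ?_
    rw [show y * (c * s) = c * (s * y) by ring]
    exact hc _ (by rw [Nat.cast_succ]; exact SetLike.mul_mem_graded hs hy)

/-- The socle trick: a sub of `H` killed by a power of `m`, with quotient an injective module `E`. -/
theorem eq_zero_of_killed {H E : Type u} [AddCommGroup H] [Module R H] [AddCommGroup E] [Module R E]
    (hE : Module.Injective R E) (Φ : H →ₗ[R] E) (hΦ : Function.Surjective Φ) {x y : R} {K : ℕ}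
    (hkill : ∀ w : H, Φ w = 0 → x ^ K • w = 0 ∧ y • w = 0)
    (hy : IsSMulRegular (R ⧸ Ideal.span {x}) y)
    (hdiv : ∀ w : H, ∃ h, x • h = w) (w : H) (hw : Φ w = 0) : w = 0 := by
  suffices hstep : ∀ w, Φ w = 0 → ∃ w', Φ w' = 0 ∧ x • w' = w by
    suffices h : ∀ (k : ℕ) (w : H), Φ w = 0 → ∃ w', Φ w' = 0 ∧ x ^ k • w' = w by
      obtain ⟨w', hw', he⟩ := h K w hw
      rw [← he]
      exact (hkill w' hw').1
    intro k
    induction k with
    | zero => intro w hw; exact ⟨w, hw, by rw [pow_zero, one_smul]⟩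
    | succ k ih =>
      intro w hw
      obtain ⟨w₁, hw₁, he₁⟩ := ih w hw
      obtain ⟨w₂, hw₂, he₂⟩ := hstep w₁ hw₁
      exact ⟨w₂, hw₂, by rw [pow_succ, mul_smul, he₂, he₁]⟩
  intro w hw
  obtain ⟨h, rfl⟩ := hdiv w
  have h0 : x • Φ h = 0 := by rw [← map_smul]; exact hw
  let J : Ideal R := Ideal.span {x}
  let g : (R ⧸ J) →ₗ[R] E := Submodule.liftQ J (LinearMap.toSpanSingleton R E (Φ h)) fun r hr => by
    obtain ⟨c, rfl⟩ := Ideal.mem_span_singleton'.1 hr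
    rw [LinearMap.mem_ker, LinearMap.toSpanSingleton_apply, mul_smul, h0, smul_zero]
  obtain ⟨g', hg'⟩ := hE.out (LinearMap.lsmul R (R ⧸ J) y) (fun a b hab => hy hab) g
  obtain ⟨h', hh'⟩ := hΦ (g' (Submodule.Quotient.mk 1))
  have hxg : x • g' (Submodule.Quotient.mk 1) = 0 := by
    rw [← map_smul, ← Submodule.Quotient.mk_smul, smul_eq_mul, mul_one,
      (Submodule.Quotient.mk_eq_zero J).2 (Ideal.mem_span_singleton_self x), map_zero]
  refine ⟨h - y • h', ?_, ?_⟩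
  · rw [map_sub, map_smul, hh', ← map_smul, sub_eq_zero, eq_comm]
    refine (hg' (Submodule.Quotient.mk 1)).trans ?_
    show (1 : R) • Φ h = Φ h
    rw [one_smul]
  · rw [smul_sub, smul_comm x y, sub_eq_self]
    exact (hkill _ (by rw [map_smul, hh', hxg])).2

namespace Vero

variable {R' : Type u} [CommRing R'] {𝒜' : ℤ → AddSubgroup R'} [GradedRing 𝒜'] {ψ : R' →+* R}
variable {q : ℕ}

/-- What a Gorenstein Veronese subring says about `H^n_m(R)` in the degrees divisible by `q`. -/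
theorem exists_pairing [LocCoh.IsCohenMacaulayRing R] [LocCoh.IsGorensteinRing R']
    (hV : IsVeroRing 𝒜 𝒜' ψ q) (hpos : ∀ n : ℤ, n < 0 → 𝒜 n = ⊥) (h0 : IsField (GrLC.deg0 𝒜))
    {m : HomogeneousIdeal 𝒜} (hm : IsStarLocal 𝒜 m)
    (hmsp : m.toIdeal = Ideal.span (⋃ n ∈ Set.Ioi (0 : ℤ), (𝒜 n : Set R)))
    {n : ℕ} (hn : ringKrullDim R = n) (I : StarInjRes 𝒜 𝒜) :
    ∃ (a₀ : ℤ) (z : I.H m n), z ∈ I.Hgr m n (a₀ * q) ∧ z ≠ 0 ∧
      (∀ w ∈ I.Hgr m n (a₀ * q), ∃ s ∈ 𝒜 0, s • z = w) ∧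
      (∀ j, a₀ < j → I.Hgr m n (j * q) = ⊥) ∧
      (∀ (j : ℤ) (w : I.H m n), w ∈ I.Hgr m n (j * q) → w ≠ 0 →
        ∃ r ∈ 𝒜 ((a₀ - j) * q), r • w ≠ 0) ∧
      (∀ (l : ℤ) (t : R), t ∈ 𝒜 (l * q) →
        (∀ w ∈ I.Hgr m n ((a₀ - l) * q), t • w = 0) → t = 0) := by
  classical
  haveI := isMaximal_irrelevant 𝒜 hpos h0 hm hmsp
  haveI := isCohenMacaulayRing_vero hV hpos h0 hm hmsp hn
  have hpos' : ∀ n : ℤ, n < 0 → 𝒜' n = ⊥ := fun _ hn => pos_of_vero hV hpos hn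
  have h0' := isField_deg0_vero hV h0
  have hm' := isStarLocal_irrIdeal 𝒜' hpos' h0'
  haveI := isMaximal_irrelevant 𝒜' hpos' h0' hm' rfl
  have hne' := ne_top_of_isStarLocal 𝒜' hm'
  have hm'sp := irrIdeal_toIdeal 𝒜'
  obtain ⟨E'', e', he'⟩ := exists_starInjHull 𝒜' (quotGr 𝒜' (irrIdeal 𝒜'))
  set I' := starRes 𝒜' 𝒜'
  obtain ⟨c, φ, hφ⟩ := exists_top_H_equiv 𝒜' hm'
    (LocCoh.IsGorensteinRing.isGorensteinLocalRing_localization (irrIdeal 𝒜').toIdeal) n
    (height_eq_of_ringKrullDim 𝒜' hm' ((ringKrullDim_vero hV hpos).trans hn)) I' he'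
  obtain ⟨γ, hγ⟩ := exists_vero_H hV hmsp hm'sp I (isVero_ring hV) I' n
  letI := (Hgr_isInternal 𝒜' 𝒜' I' (irrIdeal 𝒜') n).chooseDecomposition
  have hφs : ∀ {k : ℤ} {y : E''.carrier}, y ∈ E''.gr k →
      φ.symm y ∈ I'.Hgr (irrIdeal 𝒜') n (k - c) := by
    intro k y hy
    have h := pr_mem (I'.Hgr (irrIdeal 𝒜') n) (k - c) (φ.symm y)
    suffices he : pr (I'.Hgr (irrIdeal 𝒜') n) (k - c) (φ.symm y) = φ.symm y by rwa [he] at h
    apply φ.injective
    have h3 := map_pr_deg (I'.Hgr (irrIdeal 𝒜') n) E''.gr hφ (k - c) (φ.symm y)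
    rw [sub_add_cancel, show φ.toLinearMap (φ.symm y) = y from φ.apply_symm_apply y,
      pr_of_mem E''.gr hy] at h3
    exact h3.trans (φ.apply_symm_apply y).symm
  have hdown : ∀ {j : ℤ} {w : I.H m n}, w ∈ I.Hgr m n (j * q) → ∃ w', γ w' = w ∧ φ w' ∈ E''.gr (j + c) := by
    intro j w hw
    obtain ⟨w', hw', he⟩ := hγ.exists_eq hw
    exact ⟨w', he, hφ j w' hw'⟩
  let z' := φ.symm (e' 1)
  have hz' : z' ∈ I'.Hgr (irrIdeal 𝒜') n (-c) := by
    have := hφs (e_one_mem he')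
    rwa [zero_sub] at this
  refine ⟨-c, γ z', hγ.map_mem hz', fun h => ?_, fun w hw => ?_, fun j hj => ?_,
    fun j w hw hw0 => ?_, fun l t ht hker => ?_⟩
  · exact e_one_ne_zero hne' he' (φ.symm.map_eq_zero_iff.1 (hγ.inj (h.trans (map_zero γ).symm)))
  · obtain ⟨w', rfl, hw'⟩ := hdown hw
    rw [neg_add_cancel] at hw'
    obtain ⟨s, hs⟩ := (socleMap_bijective hpos' hm'sp hne' h0' he').2 ⟨φ w', hw'⟩
    refine ⟨ψ (s : R'), by simpa using hV.map_mem (show (s : R') ∈ 𝒜' 0 from s.2), ?_⟩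
    rw [← γ.map_smulₛₗ]
    refine congrArg γ (φ.injective ?_)
    rw [map_smul, show φ z' = e' 1 from φ.apply_symm_apply _]
    exact congrArg Subtype.val hs
  · rw [eq_bot_iff]
    intro w hw
    obtain ⟨w', rfl, hw'⟩ := hdown hw
    rw [hull_piece_eq_bot hpos' hm'sp he' (by omega), AddSubgroup.mem_bot,
      LinearEquiv.map_eq_zero_iff] at hw'
    rw [hw', map_zero]
    exact zero_mem _
  · obtain ⟨w', rfl, hw'⟩ := hdown hw
    have hne0 : φ w' ≠ 0 := fun h => hw0 (by rw [φ.map_eq_zero_iff.1 h, map_zero])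
    obtain ⟨r', hr', hr0⟩ := exists_smul_hull_ne_zero hpos' hm'sp he' hw' hne0
    refine ⟨ψ r', hV.map_mem (show r' ∈ 𝒜' (-c - j) by rwa [show -c - j = -(j + c) by ring]), ?_⟩
    rw [← γ.map_smulₛₗ]
    intro h
    refine hr0 ?_
    rw [← map_smul, hγ.inj (h.trans (map_zero γ).symm), map_zero]
  · obtain ⟨t', ht', rfl⟩ := hV.exists_eq ht
    by_contra hne
    have ht0 : (⟨t', ht'⟩ : GrLC.comp 𝒜' 𝒜' l) ≠ 0 := fun h =>
      hne (by rw [show t' = 0 from congrArg Subtype.val h, map_zero])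
    obtain ⟨L₀, hL₀⟩ : ∃ L : Module.Dual (GrLC.deg0 𝒜') (GrLC.comp 𝒜' 𝒜' l), L ⟨t', ht'⟩ ≠ 0 := by
      letI : Field (GrLC.deg0 𝒜') := h0'.toField
      by_contra h
      push Not at h
      exact ht0 ((Module.forall_dual_apply_eq_zero_iff _ _).1 h)
    obtain ⟨f, hf⟩ := (homDualEquiv hpos' hm'sp hne' h0' he' 𝒜' (-l) l (add_neg_cancel l)).surjective L₀
    have hspec := homDualEquiv_spec hpos' hm'sp hne' h0' he' (-l) l (add_neg_cancel l) f ⟨t', ht'⟩
    rw [hf] at hspec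
    have hf1 : (f : R' →ₗ[R'] E''.carrier) 1 ∈ E''.gr (-l) := by
      simpa using f.2 0 1 (SetLike.one_mem_graded 𝒜')
    have hw := hφs hf1
    rw [show -l - c = -c - l by ring] at hw
    have h1 := hker _ (hγ.map_mem hw)
    rw [← γ.map_smulₛₗ] at h1
    have h2 : t' • φ.symm ((f : R' →ₗ[R'] E''.carrier) 1) = 0 := hγ.inj (h1.trans (map_zero γ).symm)
    rw [← map_smul, ← map_smul, LinearEquiv.map_eq_zero_iff, smul_eq_mul, mul_one] at h2
    refine hL₀ ((socleMap_bijective hpos' hm'sp hne' h0' he').1 (Subtype.ext ?_))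
    rw [map_zero]
    exact hspec.trans h2

/-- `R^(q)` Gorenstein forces `R` Gorenstein and `q ∣ a(R)`. -/
theorem isGorensteinRing_and_dvd [LocCoh.IsCohenMacaulayRing R] [LocCoh.IsGorensteinRing R']
    (hV : IsVeroRing 𝒜 𝒜' ψ q) (hpos : ∀ n : ℤ, n < 0 → 𝒜 n = ⊥) (h0 : IsField (GrLC.deg0 𝒜))
    {m : HomogeneousIdeal 𝒜} (hm : IsStarLocal 𝒜 m)
    (hmsp : m.toIdeal = Ideal.span (⋃ n ∈ Set.Ioi (0 : ℤ), (𝒜 n : Set R)))
    (hstd : Ideal.span (⋃ n ∈ Set.Ioi (0 : ℤ), (𝒜 n : Set R)) = Ideal.span ((𝒜 1 : AddSubgroup R) : Set R))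
    {n : ℕ} (hn : ringKrullDim R = n) (h2 : 2 ≤ n) (I : StarInjRes 𝒜 𝒜) :
    LocCoh.IsGorensteinRing R ∧
      ∃ a : ℤ, endDeg (I.Hgr m n) = ((a : WithTop ℤ) : WithBot (WithTop ℤ)) ∧ (q : ℤ) ∣ a := by
  classical
  haveI := isMaximal_irrelevant 𝒜 hpos h0 hm hmsp
  have h1 : 1 ≤ n := by omega
  have hdim1 : 1 ≤ ringKrullDim R := by rw [hn]; exact_mod_cast h1
  obtain ⟨a₀, z, hz, hz0, hline, htop, hnd, hndR⟩ := exists_pairing hV hpos h0 hm hmsp hn I
  letI := (Hgr_isInternal 𝒜 𝒜 I m n).chooseDecomposition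
  haveI := Hgr_gradedSMul 𝒜 I m n
  have hq : (0 : ℤ) < q := by exact_mod_cast hV.pos
  have hdown : ∀ {i j : ℤ}, I.Hgr m n i ≠ ⊥ → j ≤ i → I.Hgr m n j ≠ ⊥ := fun hi hj =>
    Hgr_ne_bot_of_le hmsp hstd hn h1 I hi hj
  have hz' : I.Hgr m n (a₀ * q) ≠ ⊥ := fun h => hz0 (AddSubgroup.mem_bot.1 (h ▸ hz))
  obtain ⟨a, hane, hamax⟩ := Int.exists_greatest_of_bdd (P := fun d => I.Hgr m n d ≠ ⊥)
    ⟨(a₀ + 1) * q, fun d hd => not_lt.1 fun hlt => hdown hd hlt.le (htop (a₀ + 1) (by omega))⟩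
    ⟨a₀ * q, hz'⟩
  have habove : ∀ d, a < d → I.Hgr m n d = ⊥ := fun d hd => by
    by_contra h
    exact absurd (hamax d h) (not_le.2 hd)
  have ha0 : a₀ * q ≤ a := hamax _ hz'
  obtain ⟨ρ, rfl⟩ : ∃ ρ : ℕ, a = a₀ * q + ρ := ⟨(a - a₀ * q).toNat, by omega⟩
  have hρq : ρ < q := by
    by_contra h
    push Not at h
    refine hdown hane (show (a₀ + 1) * (q : ℤ) ≤ a₀ * q + ρ from ?_) (htop (a₀ + 1) (by omega))
    rw [add_mul, one_mul]
    omega
  obtain rfl : ρ = 0 := by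
    by_contra hρ0
    obtain ⟨x, hx, hx0⟩ := (AddSubgroup.bot_or_exists_ne_zero _).resolve_left hane
    obtain ⟨u, hu, huz⟩ : ∃ u ∈ 𝒜 (ρ : ℤ), u • z ≠ 0 := by
      by_contra h
      push Not at h
      refine hx0 (AddSubgroup.mem_bot.1 ((AddSubgroup.closure_le (⊥ : AddSubgroup (I.H m n))).2 ?_
        (mem_closure_Hgr hmsp hstd hn h1 I (a₀ * q) ρ hx)))
      rintro _ ⟨r, hr, y, hy, rfl⟩
      obtain ⟨s, -, rfl⟩ := hline y hy
      show r • s • z ∈ (⊥ : AddSubgroup (I.H m n))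
      rw [smul_comm, h r hr, smul_zero]
      exact zero_mem _
    have hqρ : ((q - ρ : ℕ) : ℤ) = q - ρ := by omega
    have hB : ∀ r ∈ 𝒜 (ρ : ℤ), ∀ y ∈ I.Hgr m n (a₀ * q - ρ), ∃ b ∈ 𝒜 0, r • y = b • z := by
      intro r hr y hy
      have := smul_mem (I.Hgr m n) 𝒜 hr hy
      rw [add_sub_cancel] at this
      obtain ⟨b, hb, hbe⟩ := hline _ this
      exact ⟨b, hb, hbe.symm⟩
    -- elements of `R_ρ` killing `z` vanish
    have hkillz : ∀ r ∈ 𝒜 (ρ : ℤ), r • z = 0 → r = 0 := by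
      intro r hr hrz
      refine eq_zero_of_mul_piece hpos hstd h0 hdim1 (q - ρ) fun s hs => ?_
      refine hndR 1 (r * s) ?_ fun w hw => ?_
      · rw [one_mul, show (q : ℤ) = ρ + ((q - ρ : ℕ) : ℤ) by omega]
        exact SetLike.mul_mem_graded hr hs
      · have hsw := smul_mem (I.Hgr m n) 𝒜 hs hw
        rw [show ((q - ρ : ℕ) : ℤ) + (a₀ - 1) * q = a₀ * q - ρ by rw [hqρ]; ring] at hsw
        obtain ⟨b, hb, hbe⟩ := hB r hr _ hsw
        obtain ⟨b', -, hbe'⟩ := hB u hu _ hsw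
        rw [mul_smul]
        rcases eq_or_ne b 0 with rfl | hb0
        · rw [hbe, zero_smul]
        exfalso
        refine huz ((isUnit_of_mem_zero 𝒜 h0 hb hb0).smul_eq_zero.1 ?_)
        rw [smul_comm, ← hbe, smul_comm u r, hbe', smul_comm r b', hrz, smul_zero]
    obtain ⟨s₀, hs₀, y, hy, c, hc, hcu, hc0⟩ : ∃ s₀ ∈ 𝒜 ((q - ρ : ℕ) : ℤ), ∃ y ∈ I.Hgr m n ((a₀ - 1) * q),
        ∃ c ∈ 𝒜 0, u • s₀ • y = c • z ∧ c ≠ 0 := by
      by_contra h
      push Not at h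
      refine huz ?_
      rw [show u = 0 from eq_zero_of_mul_piece hpos hstd h0 hdim1 (q - ρ) fun s hs =>
        hndR 1 (u * s) (by
          rw [one_mul, show (q : ℤ) = ρ + ((q - ρ : ℕ) : ℤ) by omega]
          exact SetLike.mul_mem_graded hu hs) fun w hw => ?_, zero_smul]
      have hsw := smul_mem (I.Hgr m n) 𝒜 hs hw
      rw [show ((q - ρ : ℕ) : ℤ) + (a₀ - 1) * q = a₀ * q - ρ by rw [hqρ]; ring] at hsw
      obtain ⟨b, hb, hbe⟩ := hB u hu _ hsw
      rw [mul_smul, hbe, h s hs w hw b hb hbe, zero_smul]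
    have hsy := smul_mem (I.Hgr m n) 𝒜 hs₀ hy
    rw [show ((q - ρ : ℕ) : ℤ) + (a₀ - 1) * q = a₀ * q - ρ by rw [hqρ]; ring] at hsy
    -- hence `R_ρ = k u`
    have hspan : ∀ r ∈ 𝒜 (ρ : ℤ), r ∈ Ideal.span {u} := by
      intro r hr
      obtain ⟨b, hb, hbe⟩ := hB r hr _ hsy
      obtain ⟨d, hd⟩ := h0.mul_inv_cancel (a := (⟨c, hc⟩ : GrLC.deg0 𝒜)) fun h => hc0 (congrArg Subtype.val h)
      have hd' : c * (d : R) = 1 := congrArg Subtype.val hd
      have hkey : c • (r • z) = b • (u • z) := by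
        rw [smul_comm c r, ← hcu, smul_comm r u, hbe, smul_comm]
      have hrz : (r - (d : R) * b * u) • z = 0 := by
        rw [sub_smul, mul_smul, mul_smul, ← hkey, ← mul_smul (d : R) c, mul_comm (d : R) c, hd', one_smul,
          sub_self]
      have hmem : r - (d : R) * b * u ∈ 𝒜 (ρ : ℤ) := by
        refine sub_mem hr ?_
        have := SetLike.mul_mem_graded (SetLike.mul_mem_graded (show (d : R) ∈ 𝒜 0 from d.2) hb) hu
        rwa [zero_add, zero_add] at this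
      rw [sub_eq_zero.1 (hkillz _ hmem hrz)]
      exact Ideal.mem_span_singleton'.2 ⟨_, rfl⟩
    have hum : u ∈ m.toIdeal := hmsp ▸ Ideal.subset_span
      (Set.mem_biUnion (Set.mem_Ioi.2 (by omega : (0 : ℤ) < ρ)) hu)
    have hmin : m.toIdeal ∈ (Ideal.span {u}).minimalPrimes :=
      ⟨⟨inferInstance, (Ideal.span_singleton_le_iff_mem _).2 hum⟩, fun P hP _ => by
        haveI := hP.1
        exact Ideal.IsPrime.le_of_pow_le
          (((irrelevant_pow_le hmsp hstd ρ).trans (Ideal.span_le.2 hspan)).trans hP.2)⟩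
    have hle := Ideal.height_le_one_of_isPrincipal_of_mem_minimalPrimes _ _ hmin
    rw [height_eq_of_ringKrullDim 𝒜 hm hn] at hle
    have : n ≤ 1 := by exact_mod_cast hle
    omega
  rw [Nat.cast_zero, add_zero] at hane hamax habove
  refine ⟨?_, a₀ * q, endDeg_eq_coe_of_max hane habove, dvd_mul_left _ _⟩
  -- Gorenstein
  have hR : ∀ (i : ℕ) (r : R), r ∈ 𝒜 (i : ℤ) →
      (∀ w ∈ I.Hgr m n (a₀ * q - i), r • w = 0) → r = 0 := by
    intro i r hr hker
    have hiq : i ≤ i * q := Nat.le_mul_of_pos_right i hV.pos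
    refine eq_zero_of_mul_piece hpos hstd h0 hdim1 (i * q - i) fun s hs => hndR i (r * s) ?_ fun w hw => ?_
    · rw [show ((i : ℤ) * q) = i + ((i * q - i : ℕ) : ℤ) by rw [Nat.cast_sub hiq, Nat.cast_mul]; ring]
      exact SetLike.mul_mem_graded hr hs
    · have hsw := smul_mem (I.Hgr m n) 𝒜 hs hw
      rw [show ((i * q - i : ℕ) : ℤ) + (a₀ - i) * q = a₀ * q - i by
        rw [Nat.cast_sub hiq, Nat.cast_mul]; ring] at hsw
      rw [mul_smul, hker _ hsw]
  have hne := ne_top_of_isStarLocal 𝒜 hm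
  obtain ⟨E, e, he⟩ := exists_starInjHull 𝒜 (quotGr 𝒜 m)
  let soc := LinearEquiv.ofBijective (socleMap he) (socleMap_bijective hpos hmsp hne h0 he)
  let ζ : GrLC.deg0 𝒜 →ₗ[GrLC.deg0 𝒜] GrLC.comp 𝒜 (I.Hgr m n) (a₀ * q) :=
    LinearMap.toSpanSingleton _ _ ⟨z, hz⟩
  have hζ : Function.Bijective ζ := by
    refine ⟨(injective_iff_map_eq_zero ζ).2 fun s hs => ?_, fun w => ?_⟩
    · by_contra hs0
      exact hz0 ((isUnit_of_mem_zero 𝒜 h0 (show (s : R) ∈ 𝒜 0 from s.2)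
        fun h => hs0 (Subtype.ext h)).smul_eq_zero.1 (congrArg Subtype.val hs))
    · obtain ⟨s, hs, he'⟩ := hline _ (show (w : I.H m n) ∈ I.Hgr m n (a₀ * q) from w.2)
      exact ⟨⟨s, hs⟩, Subtype.ext he'⟩
  let μ : GrLC.comp 𝒜 (I.Hgr m n) (a₀ * q) →ₗ[GrLC.deg0 𝒜] GrLC.comp 𝒜 E.gr 0 :=
    soc.toLinearMap ∘ₗ (LinearEquiv.ofBijective ζ hζ).symm.toLinearMap
  obtain ⟨Φ, hΦdeg, hΦμ⟩ := exists_extend_piece (C := I.H m n) hpos hmsp he (I.Hgr m n) (a₀ * q)
    (-(a₀ * q)) (add_neg_cancel _) μ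
  have hΦtop : ∀ {w}, w ∈ I.Hgr m n (a₀ * q) → Φ w = 0 → w = 0 := by
    intro w hw h
    have h1 : μ ⟨w, hw⟩ = 0 := Subtype.ext ((hΦμ ⟨w, hw⟩).symm.trans h)
    exact congrArg Subtype.val ((LinearEquiv.map_eq_zero_iff _).1 ((LinearEquiv.map_eq_zero_iff soc).1 h1))
  have hΦdeg' : ∀ {j : ℤ} {w}, w ∈ I.Hgr m n j → Φ w ∈ E.gr (j - a₀ * q) := fun {j w} hw => by
    rw [sub_eq_add_neg]; exact hΦdeg j w hw
  -- the kernel is killed by a fixed power of `m`
  have hkill : ∀ w, Φ w = 0 → ∀ t ∈ m.toIdeal ^ q, t • w = 0 := by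
    intro w hw t ht
    obtain ⟨s, -, hs⟩ := exists_sum_pr (I.Hgr m n) w
    rw [← hs, Finset.smul_sum]
    refine Finset.sum_eq_zero fun j _ => ?_
    have hwj : Φ (pr (I.Hgr m n) j w) = 0 := by
      rw [map_pr_deg (I.Hgr m n) E.gr hΦdeg j w, hw, map_zero]
    set v := pr (I.Hgr m n) j w
    have hv : v ∈ I.Hgr m n j := pr_mem _ j w
    obtain ⟨k, hk⟩ : ∃ k : ℕ, (k : ℤ) = (-j) % q :=
      ⟨((-j) % q).toNat, Int.toNat_of_nonneg (Int.emod_nonneg _ hq.ne')⟩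
    obtain ⟨l, hl⟩ : (q : ℤ) ∣ j + k := ⟨-((-j) / q), by rw [hk, Int.emod_def]; ring⟩
    have hkq : k ≤ q := by
      have := Int.emod_lt_of_pos (-j) hq
      omega
    have hkillk : ∀ r ∈ 𝒜 (k : ℤ), r • v = 0 := by
      intro r hr
      by_contra hrv
      have hrvm := smul_mem (I.Hgr m n) 𝒜 hr hv
      rw [add_comm, hl, mul_comm] at hrvm
      obtain ⟨r', hr', hne'⟩ := hnd l _ hrvm hrv
      refine hne' (hΦtop ?_ (by rw [map_smul, map_smul, hwj, smul_zero, smul_zero]))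
      have := smul_mem (I.Hgr m n) 𝒜 hr' hrvm
      rwa [show (a₀ - l) * (q : ℤ) + l * q = a₀ * q by ring] at this
    have htk : t ∈ Ideal.span (𝒜 (k : ℤ) : Set R) :=
      irrelevant_pow_le hmsp hstd k (Ideal.pow_le_pow_right hkq ht)
    clear ht
    induction htk using Submodule.span_induction with
    | mem r hr => exact hkillk r hr
    | zero => exact zero_smul _ _
    | add a b _ _ ha hb => rw [add_smul, ha, hb, add_zero]
    | smul c a _ ha => rw [smul_eq_mul, mul_smul, ha, smul_zero]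
  have hsurj : Function.Surjective Φ := by
    intro y
    obtain ⟨s, -, hs⟩ := exists_sum_pr E.gr y
    suffices h : ∀ j, ∃ w, Φ w = pr E.gr j y by
      choose w hw using h
      exact ⟨∑ j ∈ s, w j, by rw [map_sum, Finset.sum_congr rfl fun j _ => hw j, hs]⟩
    intro j
    rcases lt_or_ge 0 j with hj | hj
    · refine ⟨0, ?_⟩
      have h := pr_mem E.gr j y
      rw [hull_piece_eq_bot hpos hmsp he hj, AddSubgroup.mem_bot] at h
      rw [h, map_zero]
    obtain ⟨i, rfl⟩ : ∃ i : ℕ, j = -(i : ℤ) := ⟨(-j).toNat, by omega⟩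
    haveI := finite_comp 𝒜 hstd (Int.natCast_nonneg i)
    have hval : ∀ (v : E.carrier), v ∈ E.gr (-(i : ℤ)) → ∀ r : GrLC.comp 𝒜 𝒜 (i : ℤ),
        (r : R) • v ∈ GrLC.comp 𝒜 E.gr 0 := fun v hv r => by
      have h := smul_mem E.gr 𝒜 (show (r : R) ∈ 𝒜 (i : ℤ) from r.2) hv
      rwa [add_neg_cancel] at h
    have hΦi : ∀ w : GrLC.comp 𝒜 (I.Hgr m n) (a₀ * q - i), Φ (w : I.H m n) ∈ E.gr (-(i : ℤ)) := fun w => by
      have h := hΦdeg' (show (w : I.H m n) ∈ I.Hgr m n (a₀ * q - i) from w.2)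
      rwa [sub_sub_cancel_left] at h
    let B : GrLC.comp 𝒜 (I.Hgr m n) (a₀ * q - i) →ₗ[GrLC.deg0 𝒜]
        GrLC.comp 𝒜 𝒜 (i : ℤ) →ₗ[GrLC.deg0 𝒜] GrLC.deg0 𝒜 :=
      LinearMap.mk₂ (GrLC.deg0 𝒜) (fun w r => soc.symm ⟨_, hval _ (hΦi w) r⟩)
        (fun w w' r => by
          rw [← map_add]
          exact congrArg _ (Subtype.ext (by
            show (r : R) • Φ ((w : I.H m n) + (w' : I.H m n)) = _
            rw [map_add, smul_add]; rfl)))
        (fun c w r => by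
          exact (congrArg soc.symm (Subtype.ext (by
            show (r : R) • Φ ((c : R) • (w : I.H m n)) = (c : R) • ((r : R) • Φ (w : I.H m n))
            rw [map_smul, smul_comm]) : _ = c • (⟨_, hval _ (hΦi w) r⟩ : GrLC.comp 𝒜 E.gr 0))).trans
            (map_smul soc.symm c _))
        (fun w r r' => by
          rw [← map_add]
          exact congrArg _ (Subtype.ext (add_smul (r : R) (r' : R) _)))
        (fun c w r => by
          exact (congrArg soc.symm (Subtype.ext (by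
            show ((c : R) * (r : R)) • Φ (w : I.H m n) = (c : R) • ((r : R) • Φ (w : I.H m n))
            rw [mul_smul]) : _ = c • (⟨_, hval _ (hΦi w) r⟩ : GrLC.comp 𝒜 E.gr 0))).trans
            (map_smul soc.symm c _))
    have hB : Function.Surjective B := by
      have hflip : Function.Injective B.flip := (injective_iff_map_eq_zero _).2 fun r hr =>
        Subtype.ext (hR i r r.2 fun w hw => hΦtop
          (by have := smul_mem (I.Hgr m n) 𝒜 (show (r : R) ∈ 𝒜 (i : ℤ) from r.2) hw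
              rwa [add_sub_cancel] at this)
          (by
            rw [map_smul]
            exact congrArg Subtype.val (soc.symm.map_eq_zero_iff.1 (LinearMap.congr_fun hr ⟨w, hw⟩))))
      letI : Field (GrLC.deg0 𝒜) := h0.toField
      exact LinearMap.flip_injective_iff₂.1 hflip
    let L : GrLC.comp 𝒜 𝒜 (i : ℤ) →ₗ[GrLC.deg0 𝒜] GrLC.deg0 𝒜 :=
      { toFun := fun r => soc.symm ⟨_, hval _ (pr_mem E.gr (-(i : ℤ)) y) r⟩
        map_add' := fun r r' => by
          rw [← map_add]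
          exact congrArg _ (Subtype.ext (add_smul (r : R) (r' : R) _))
        map_smul' := fun c r => by
          exact (congrArg soc.symm (Subtype.ext (by
            show ((c : R) * (r : R)) • _ = (c : R) • ((r : R) • pr E.gr (-(i : ℤ)) y)
            rw [mul_smul]) : _ = c • (⟨_, hval _ (pr_mem E.gr (-(i : ℤ)) y) r⟩ : GrLC.comp 𝒜 E.gr 0))).trans
            (map_smul soc.symm c _) }
    obtain ⟨w, hw⟩ := hB L
    refine ⟨(w : I.H m n), ?_⟩
    by_contra hne'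
    obtain ⟨r, hr, hr0⟩ := exists_smul_hull_ne_zero hpos hmsp he (sub_mem (hΦi w) (pr_mem E.gr _ y))
      (sub_ne_zero.2 hne')
    rw [neg_neg] at hr
    refine hr0 ?_
    rw [smul_sub, sub_eq_zero]
    exact congrArg Subtype.val (soc.symm.injective (LinearMap.congr_fun hw ⟨r, hr⟩))
  -- a regular sequence of length two in `m`
  haveI := LocCoh.IsCohenMacaulayRing.isCohenMacaulayLocalRing_localization (R := R) m.toIdeal
  have hdepth : (n : ℕ∞) ≤ LocCoh.idealDepth m.toIdeal R := by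
    refine Groth.LocCohBase.le_idealDepth_of_forall_depth m.toIdeal n R fun p hp hle => ?_
    obtain rfl : m.toIdeal = p := ‹m.toIdeal.IsMaximal›.eq_of_le hp.ne_top hle
    rw [LocCoh.depth, Groth.LocCohBase.idealDepth_congr (localizedSelfEquiv m.toIdeal)]
    exact le_of_eq (Groth.CanMod.depth_self inferInstance (ringKrullDim_at_starLocal 𝒜 hm hn)).symm
  obtain ⟨rs, hlen, hreg, hmem⟩ := (Groth.LocCohBase.le_idealDepth_iff_exists m.toIdeal
    (by simpa using hne) n).1 hdepth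
  obtain ⟨x, y, tl, rfl⟩ : ∃ x y tl, rs = x :: y :: tl := by
    rcases rs with _ | ⟨x, _ | ⟨y, tl⟩⟩
    · simp at hlen; omega
    · simp at hlen; omega
    · exact ⟨x, y, tl, rfl⟩
  rw [RingTheory.Sequence.isWeaklyRegular_cons_iff, RingTheory.Sequence.isWeaklyRegular_cons_iff] at hreg
  have hxm : x ∈ m.toIdeal := hmem x (by simp)
  have hym : y ∈ m.toIdeal := hmem y (by simp)
  have hxR : x • (⊤ : Submodule R R) = Ideal.span {x} := by
    rw [← Submodule.ideal_span_singleton_smul, smul_eq_mul, Ideal.mul_top]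
  have hyreg : IsSMulRegular (R ⧸ Ideal.span {x}) (y ^ q) :=
    ((LinearEquiv.isSMulRegular_congr (Submodule.quotEquivOfEq _ _ hxR) y).1 hreg.2.1).pow q
  have hdiv : ∀ w : I.H m n, ∃ h, x • h = w := by
    obtain ⟨eH⟩ := nonempty_H_equiv 𝒜 𝒜 m I n
    have hsupp : Module.supportDim R (R ⧸ Ideal.span {x}) < (n : WithBot ℕ∞) := by
      rw [Module.supportDim_quotient_eq_ringKrullDim]
      have h := ringKrullDim_quotient_succ_le_of_nonZeroDivisor (r := x)
        (mem_nonZeroDivisors_iff_right.2 fun z hz => hreg.1 (by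
          show x • z = x • 0
          rw [smul_zero, smul_eq_mul, mul_comm, hz]))
      rw [hn] at h
      revert h
      cases ringKrullDim (R ⧸ Ideal.span {x}) with
      | bot => exact fun _ => WithBot.bot_lt_coe _
      | coe d =>
        intro h
        have h' : d + 1 ≤ (n : ℕ∞) := WithBot.coe_le_coe.1 (by exact_mod_cast h)
        exact WithBot.coe_lt_coe.2 ((ENat.add_one_le_iff (fun hd => by simp [hd] at h')).1 h')
    haveI := Groth.LocCohBase.subsingleton_H_of_supportDim_lt m.toIdeal (R ⧸ Ideal.span {x}) hsupp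
    have hS := GrothGoren.seqCx_shortExact (LinearMap.lsmul R R x) (Ideal.span {x}).mkQ
      (fun r => by
        rw [Submodule.mkQ_apply, Submodule.Quotient.mk_eq_zero, Ideal.mem_span_singleton']
        exact ⟨fun ⟨c, hc⟩ => ⟨c, by rw [← hc]; exact mul_comm x c⟩,
          fun ⟨c, hc⟩ => ⟨c, by rw [← hc]; exact mul_comm c x⟩⟩)
      hreg.1 (Submodule.mkQ_surjective _)
    intro w
    obtain ⟨u, hu⟩ := (Groth.LocCohBase.exact₂ (I := m.toIdeal) hS n (eH w)).1 (Subsingleton.elim _ _)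
    refine ⟨eH.symm u, eH.injective ?_⟩
    rw [map_smul, eH.apply_symm_apply]
    refine (Groth.LocCohBase.smul_eq_map (I := m.toIdeal) n (ModuleCat.of R R) x u).trans ?_
    rw [show x • 𝟙 (ModuleCat.of R R) = ModuleCat.ofHom (LinearMap.lsmul R R x) from ModuleCat.hom_ext rfl]
    exact hu
  have hinjE : Module.Injective R E.carrier :=
    (Groth.Agent.S18637.result R 𝒜 m E.carrier E.gr e he).isInjective
  have hinj : Function.Injective Φ := (injective_iff_map_eq_zero Φ).2 fun w hw =>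
    eq_zero_of_killed hinjE Φ hsurj (x := x) (y := y ^ q) (K := q) (fun v hv =>
      ⟨hkill v hv _ (Ideal.pow_mem_pow hxm q), hkill v hv _ (Ideal.pow_mem_pow hym q)⟩) hyreg hdiv w hw
  letI := (shiftPc_isInternal 𝒜 (-(a₀ * q))).chooseDecomposition
  haveI := gradedSMul_shiftPc 𝒜 (-(a₀ * q)) 𝒜
  have hC := isStarCanonical_of_top_H_equiv (LinearEquiv.ofBijective Φ ⟨hinj, hsurj⟩) hΦdeg
  exact (GrothGoren.isGorensteinRing_and_dim (canonical_cm_injdim 𝒜 hm hn he hC).2).1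

end Vero

end GrothGr
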