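import Groth.Agent.GrMod.Veronese.Cohomology
import Mathlib.LinearAlgebra.Dimension.Finrank

/-!
# Hilbert functions of Veronese submodules

Helper library (no milestone statements here).
-/

universe u

open DirectSum GrLC

namespace GrothGr.Vero

variable {R : Type u} [CommRing R] {𝒜 : ℤ → AddSubgroup R} [GradedRing 𝒜]
variable {R' : Type u} [CommRing R'] {𝒜' : ℤ → AddSubgroup R'} [GradedRing 𝒜'] {φ : R' →+* R}
variable {q : ℕ} (hV : IsVeroRing 𝒜 𝒜' φ q)

/-- The isomorphism of the rings in degree zero. -/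
noncomputable def deg0Equiv : GrLC.deg0 𝒜' ≃+* GrLC.deg0 𝒜 :=
  RingEquiv.ofBijective
    ({ toFun := fun r => ⟨φ r, show φ (r : R') ∈ 𝒜 0 by simpa using hV.map_mem r.2⟩
       map_one' := Subtype.ext (map_one φ)
       map_mul' := fun a b => Subtype.ext (map_mul φ (a : R') b)
       map_zero' := Subtype.ext (map_zero φ)
       map_add' := fun a b => Subtype.ext (map_add φ (a : R') b) } :
      GrLC.deg0 𝒜' →+* GrLC.deg0 𝒜)
    ⟨fun a b h => Subtype.ext (hV.inj (congrArg Subtype.val h)), fun x => by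
      obtain ⟨r, hr, hrx⟩ := hV.exists_eq (j := 0) (x := (x : R)) (by simpa using x.2)
      exact ⟨⟨r, hr⟩, Subtype.ext hrx⟩⟩

theorem deg0Equiv_apply (r : GrLC.deg0 𝒜') : (deg0Equiv hV r : R) = φ r := rfl

include hV in
/-- Pieces identified by a semilinear injection have the same dimension. -/
theorem finrank_eq_of_map_eq {M : Type u} [AddCommGroup M] [Module R M]
    {M' : Type u} [AddCommGroup M'] [Module R' M'] (g : M' →ₛₗ[φ] M) (hg : Function.Injective g)
    (P' : Submodule (GrLC.deg0 𝒜') M') (P : Submodule (GrLC.deg0 𝒜) M)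
    (h : P'.toAddSubgroup.map (g : M' →+ M) = P.toAddSubgroup) :
    Module.finrank (GrLC.deg0 𝒜') P' = Module.finrank (GrLC.deg0 𝒜) P := by
  let e : P' →+ P :=
    { toFun := fun x => ⟨g x, h.le ⟨x, x.2, rfl⟩⟩
      map_zero' := Subtype.ext (map_zero g)
      map_add' := fun a b => Subtype.ext (map_add g _ _) }
  have he : Function.Bijective e := by
    refine ⟨fun a b hab => Subtype.ext (hg (congrArg Subtype.val hab)), fun x => ?_⟩
    obtain ⟨y, hy, hyx⟩ := h.ge x.2
    exact ⟨⟨y, hy⟩, Subtype.ext hyx⟩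
  exact congrArg Cardinal.toNat (rank_eq_of_equiv_equiv (deg0Equiv hV) (AddEquiv.ofBijective e he)
    (deg0Equiv hV).bijective fun r x => Subtype.ext (g.map_smulₛₗ (r : R') (x : M')))

end GrothGr.Vero
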