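import Groth.Agent.GrMod.Veronese.Type
import Groth.Agent.GrMod.CanonicalHilbert

/-!
# When is a Veronese subring Gorenstein

Helper library (no milestone statements here).
-/

universe u

open DirectSum GrLC

open scoped TensorProduct

namespace GrothGr

variable {R : Type u} [CommRing R] {𝒜 : ℤ → AddSubgroup R} [GradedRing 𝒜]

/-- The type of a Gorenstein graded ring over a field is one. -/
theorem bassNum_eq_one_of_gorenstein [LocCoh.IsGorensteinRing R]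
    (hpos : ∀ n : ℤ, n < 0 → 𝒜 n = ⊥) (h0 : IsField (GrLC.deg0 𝒜))
    {m : HomogeneousIdeal 𝒜} (hm : IsStarLocal 𝒜 m) [m.toIdeal.IsMaximal]
    (hmsp : m.toIdeal = Ideal.span (⋃ n ∈ Set.Ioi (0 : ℤ), (𝒜 n : Set R)))
    {n : ℕ} (hn : ringKrullDim R = n) : GrLC.bassNum m.toIdeal R n = 1 := by
  haveI := isCohenMacaulayRing_of_gorenstein R
  obtain ⟨E, e, he⟩ := exists_starInjHull 𝒜 (quotGr 𝒜 m)
  obtain ⟨c, φ, hφ⟩ := exists_top_H_equiv 𝒜 hm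
    (LocCoh.IsGorensteinRing.isGorensteinLocalRing_localization m.toIdeal) n
    (height_eq_of_ringKrullDim 𝒜 hm hn) (starRes 𝒜 𝒜) he
  letI := (shiftPc_isInternal 𝒜 c).chooseDecomposition
  haveI := gradedSMul_shiftPc 𝒜 c 𝒜
  have hC := Vero.isStarCanonical_of_top_H_equiv φ hφ
  rw [(canonical_type 𝒜 hm hn he hC).2,
    (TensorProduct.AlgebraTensorModule.rid R (R ⧸ m.toIdeal) (R ⧸ m.toIdeal)).finrank_eq,
    Module.finrank_self, Nat.cast_one]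

namespace Vero

variable {R' : Type u} [CommRing R'] {𝒜' : ℤ → AddSubgroup R'} [GradedRing 𝒜'] {ψ : R' →+* R}
variable {q : ℕ}

/-- For `dim R ≥ 1` and `dim R₁ ≥ 2`: if `R^(q)` is Gorenstein then `q ∣ a(R)`. -/
theorem dvd_of_isGorensteinRing_vero [LocCoh.IsGorensteinRing R] [LocCoh.IsGorensteinRing R']
    (hV : IsVeroRing 𝒜 𝒜' ψ q)
    (hpos : ∀ n : ℤ, n < 0 → 𝒜 n = ⊥) (h0 : IsField (GrLC.deg0 𝒜))
    {m : HomogeneousIdeal 𝒜} (hm : IsStarLocal 𝒜 m)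
    (hmsp : m.toIdeal = Ideal.span (⋃ n ∈ Set.Ioi (0 : ℤ), (𝒜 n : Set R)))
    (hstd : Ideal.span (⋃ n ∈ Set.Ioi (0 : ℤ), (𝒜 n : Set R)) = Ideal.span ((𝒜 1 : AddSubgroup R) : Set R))
    (hR1 : 2 ≤ Module.finrank (GrLC.deg0 𝒜) (GrLC.comp 𝒜 𝒜 1))
    {n : ℕ} (hn : ringKrullDim R = n) (h1 : 1 ≤ n) {I : StarInjRes 𝒜 𝒜} {a : ℤ}
    (ha : endDeg (I.Hgr m n) = ((a : WithTop ℤ) : WithBot (WithTop ℤ))) : (q : ℤ) ∣ a := by
  haveI := isCohenMacaulayRing_of_gorenstein R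
  have hpos' : ∀ n : ℤ, n < 0 → 𝒜' n = ⊥ := fun _ hn => pos_of_vero hV hpos hn
  have h0' := isField_deg0_vero hV h0
  have hm' := isStarLocal_irrIdeal 𝒜' hpos' h0'
  haveI := isMaximal_irrelevant 𝒜' hpos' h0' hm' rfl
  have hq : (q : ℤ) ≠ 0 := by exact_mod_cast hV.pos.ne'
  have hρq : a % q < q := Int.emod_lt_of_pos _ (by exact_mod_cast hV.pos)
  have hρa : (q : ℤ) ∣ a - a % q := ⟨a / q, by rw [Int.emod_def]; ring⟩
  have ht := bassNum_vero hV hpos h0 hm hmsp hstd hn ha (irrIdeal 𝒜') (irrIdeal_toIdeal 𝒜')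
    (Int.emod_nonneg a hq) hρq hρa
  rw [bassNum_eq_one_of_gorenstein hpos' h0' hm' (irrIdeal_toIdeal 𝒜')
    ((ringKrullDim_vero hV hpos).trans hn)] at ht
  have hle : ∀ i : ℕ, 1 ≤ i → 2 ≤ Module.finrank (GrLC.deg0 𝒜) (GrLC.comp 𝒜 𝒜 (i : ℤ)) := by
    intro i hi
    induction i, hi using Nat.le_induction with
    | base => simpa using hR1
    | succ k _ ih =>
      rw [Nat.cast_succ]
      exact ih.trans (finrank_comp_le_succ 𝒜 hpos hstd h0 (by rw [hn]; exact_mod_cast h1) _)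
  rcases (Int.emod_nonneg a hq).eq_or_lt with h | h
  · exact Int.dvd_of_emod_eq_zero h.symm
  · obtain ⟨i, hi⟩ : ∃ i : ℕ, a % q = i := ⟨(a % q).toNat, (Int.toNat_of_nonneg h.le).symm⟩
    have h2 := hle i (by omega)
    rw [hi] at ht
    have h3 : (1 : ℕ) = Module.finrank (GrLC.deg0 𝒜) (GrLC.comp 𝒜 𝒜 (i : ℤ)) := by exact_mod_cast ht
    omega

end Vero

end GrothGr
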