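import Groth.Agent.GrMod.Veronese.Basic
import Groth.Agent.GrMod.Positive
import Groth.Agent.EGA41Two.DimIntegral

/-!
# Veronese subrings of positively graded rings

Helper library (no milestone statements here).
-/

universe u

open DirectSum GrLC

namespace GrothGr.Vero

variable {R : Type u} [CommRing R] {𝒜 : ℤ → AddSubgroup R} [GradedRing 𝒜]
variable {R' : Type u} [CommRing R'] {𝒜' : ℤ → AddSubgroup R'} [GradedRing 𝒜'] {φ : R' →+* R}
variable {q : ℕ} (hV : IsVeroRing 𝒜 𝒜' φ q)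
variable {M : Type u} [AddCommGroup M] [Module R M] {ℳ : ℤ → AddSubgroup M} [Decomposition ℳ]
  [SetLike.GradedSMul 𝒜 ℳ]
variable {M' : Type u} [AddCommGroup M'] [Module R' M'] {ℳ' : ℤ → AddSubgroup M'} [Decomposition ℳ']
  [SetLike.GradedSMul 𝒜' ℳ'] {g : M' →ₛₗ[φ] M}

include hV in
theorem pos_of_vero (hpos : ∀ n : ℤ, n < 0 → 𝒜 n = ⊥) {n : ℤ} (hn : n < 0) : 𝒜' n = ⊥ := by
  rw [eq_bot_iff]
  intro x hx
  have h := hV.map_mem hx
  rw [hpos _ (mul_neg_of_neg_of_pos hn (by exact_mod_cast hV.pos)), AddSubgroup.mem_bot] at h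
  exact AddSubgroup.mem_bot.2 (hV.inj (h.trans (map_zero φ).symm))

include hV in
theorem isField_deg0_vero (h0 : IsField (GrLC.deg0 𝒜)) : IsField (GrLC.deg0 𝒜') := by
  haveI : Nontrivial R := ⟨⟨_, _, fun e => h0.exists_pair_ne.choose_spec.choose_spec (Subtype.ext e)⟩⟩
  refine ⟨⟨0, 1, fun e => ?_⟩, mul_comm, fun {a} ha => ?_⟩
  · have : (0 : R') = 1 := congrArg Subtype.val e
    exact zero_ne_one (α := R) (by rw [← map_one φ, ← this, map_zero])
  · have ha' : φ a ∈ 𝒜 0 := by simpa using hV.map_mem a.2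
    obtain ⟨b, hb⟩ := h0.mul_inv_cancel (a := ⟨φ a, ha'⟩) fun e => ha (Subtype.ext (hV.inj
      ((congrArg Subtype.val e).trans (map_zero φ).symm)))
    obtain ⟨c, hc, hcb⟩ := hV.exists_eq (j := 0) (x := (b : R)) (by simpa using b.2)
    refine ⟨⟨c, hc⟩, Subtype.ext (hV.inj ?_)⟩
    show φ ((a : R') * c) = φ 1
    rw [map_mul, hcb, map_one]
    exact congrArg Subtype.val hb

include hV in
/-- `R` is integral over its Veronese subring. -/
theorem isIntegral_vero (hpos : ∀ n : ℤ, n < 0 → 𝒜 n = ⊥) : φ.IsIntegral := by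
  intro x
  obtain ⟨s, -, hs⟩ := exists_sum_pr 𝒜 x
  rw [← hs]
  letI := φ.toAlgebra
  refine IsIntegral.sum _ fun d _ => ?_
  rcases lt_or_ge d 0 with hd | hd
  · have h := pr_mem 𝒜 d x
    rw [hpos d hd, AddSubgroup.mem_bot] at h
    rw [h]
    exact isIntegral_zero
  · refine IsIntegral.of_pow hV.pos ?_
    obtain ⟨r, -, hr⟩ := hV.exists_eq (j := d) (x := pr 𝒜 d x ^ q) (by
      rw [mul_comm, ← nsmul_eq_mul]
      exact SetLike.pow_mem_graded q (pr_mem 𝒜 d x))
    rw [← hr]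
    exact isIntegral_algebraMap (x := r)

include hV in
theorem ringKrullDim_vero (hpos : ∀ n : ℤ, n < 0 → 𝒜 n = ⊥) : ringKrullDim R' = ringKrullDim R := by
  letI := φ.toAlgebra
  haveI : Algebra.IsIntegral R' R := ⟨isIntegral_vero hV hpos⟩
  exact Groth.EGA41Two.ringKrullDim_eq_of_isIntegral_of_injective hV.inj

include hV in
/-- A Veronese submodule of a Noetherian module is Noetherian. -/
theorem IsVero.isNoetherian [IsNoetherian R M] (h : IsVero ℳ ℳ' q g) : IsNoetherian R' M' := by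
  let ext' : Submodule R' M' → Submodule R M := fun P => Submodule.span R (g '' P)
  have key : ∀ (P : Submodule R' M') (x : M'), g x ∈ ext' P → x ∈ P := by
    intro P x hx
    suffices hh : ∀ z ∈ ext' P, ∀ c : R, h.retr (c • z) ∈ P by
      have := hh _ hx 1
      rwa [one_smul, h.retr_apply] at this
    intro z hz
    induction hz using Submodule.span_induction with
    | mem y hy =>
      obtain ⟨p, hp, rfl⟩ := hy
      intro c
      obtain ⟨a, ha⟩ := (isVero_ring hV).exists_cut c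
      suffices hc : h.retr (c • g p) = a • p by rw [hc]; exact P.smul_mem _ hp
      refine h.inj ?_
      rw [h.apply_retr, g.map_smulₛₗ, show φ a = cut 𝒜 q c from ha]
      obtain ⟨s, -, hs⟩ := exists_sum_pr ℳ' p
      rw [← hs, map_sum, Finset.smul_sum, Finset.smul_sum, map_sum]
      refine Finset.sum_congr rfl fun j _ => pr_ext ℳ fun d => ?_
      have hgm := h.map_mem (pr_mem ℳ' j p)
      rw [pr_cut, pr_smul_of_mem 𝒜 ℳ hgm d c, pr_smul_of_mem 𝒜 ℳ hgm d (cut 𝒜 q c),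
        ← pr_apply 𝒜 (d - j * q) (cut 𝒜 q c), pr_cut]
      have hd : (q : ℤ) ∣ d - j * q ↔ (q : ℤ) ∣ d := dvd_sub_left (dvd_mul_left _ _)
      by_cases h' : (q : ℤ) ∣ d
      · rw [if_pos h', if_pos (hd.2 h')]; rfl
      · rw [if_neg h', if_neg (mt hd.1 h'), zero_smul]
    | zero => intro c; rw [smul_zero, map_zero]; exact zero_mem _
    | add a b _ _ ha hb => intro c; rw [smul_add, map_add]; exact add_mem (ha c) (hb c)
    | smul s a _ ha => intro c; rw [smul_smul]; exact ha _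
  have hmono : StrictMono ext' := fun P Q hPQ =>
    lt_of_le_of_ne (Submodule.span_mono (Set.image_mono hPQ.le)) fun e => hPQ.not_ge fun x hx =>
      key P x (e.ge (Submodule.subset_span ⟨x, hx, rfl⟩))
  exact isNoetherian_iff'.2 hmono.wellFoundedGT

section Irrelevant

variable {m : HomogeneousIdeal 𝒜}
  (hmsp : m.toIdeal = Ideal.span (⋃ n ∈ Set.Ioi (0 : ℤ), (𝒜 n : Set R)))
  {m' : HomogeneousIdeal 𝒜'}
  (hm'sp : m'.toIdeal = Ideal.span (⋃ j ∈ Set.Ioi (0 : ℤ), (𝒜' j : Set R')))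

/-- The extension of the irrelevant ideal of the Veronese subring. -/
def extIdeal (φ : R' →+* R) (m' : HomogeneousIdeal 𝒜') (h : (m'.toIdeal.map φ).IsHomogeneous 𝒜) :
    HomogeneousIdeal 𝒜 := ⟨m'.toIdeal.map φ, h⟩

include hV hm'sp in
theorem isHomogeneous_map : (m'.toIdeal.map φ).IsHomogeneous 𝒜 := by
  rw [hm'sp, Ideal.map_span]
  refine Ideal.homogeneous_span _ _ ?_
  rintro _ ⟨x, hx, rfl⟩
  obtain ⟨j, -, hj⟩ := Set.mem_iUnion₂.1 hx
  exact ⟨j * q, hV.map_mem hj⟩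

include hV hmsp hm'sp in
theorem map_le : m'.toIdeal.map φ ≤ m.toIdeal := by
  rw [hm'sp, Ideal.map_span, Ideal.span_le]
  rintro _ ⟨x, hx, rfl⟩
  obtain ⟨j, hj, hjx⟩ := Set.mem_iUnion₂.1 hx
  rw [hmsp]
  exact Ideal.subset_span (Set.mem_biUnion (Set.mem_Ioi.2
    (mul_pos (Set.mem_Ioi.1 hj) (by exact_mod_cast hV.pos))) (hV.map_mem hjx))

include hV hmsp hm'sp in
theorem le_radical_map : m.toIdeal ≤ (m'.toIdeal.map φ).radical := by
  rw [hmsp, Ideal.span_le]
  intro x hx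
  obtain ⟨j, hj, hjx⟩ := Set.mem_iUnion₂.1 hx
  obtain ⟨r, hr, hrx⟩ := hV.exists_eq (j := j) (x := x ^ q) (by
    rw [mul_comm, ← nsmul_eq_mul]
    exact SetLike.pow_mem_graded q hjx)
  exact ⟨q, hrx ▸ Ideal.mem_map_of_mem _ (hm'sp ▸ Ideal.subset_span (Set.mem_biUnion hj hr))⟩

include hV hmsp hm'sp in
/-- Torsion for the two irrelevant ideals is the same. -/
theorem gam_map_eq [IsNoetherianRing R] (N : Type u) [AddCommGroup N] [Module R N] :
    gam (m'.toIdeal.map φ) N = gam m.toIdeal N := by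
  refine le_antisymm (fun x ⟨k, hk⟩ => ?_) fun x ⟨k, hk⟩ => ⟨k, fun r hr => hk r
    (Ideal.pow_right_mono (map_le hV hmsp hm'sp) k hr)⟩
  obtain ⟨t, ht⟩ := Ideal.exists_pow_le_of_le_radical_of_fg (le_radical_map hV hmsp hm'sp)
    (IsNoetherian.noetherian m.toIdeal)
  exact ⟨t * k, fun r hr => hk r (Ideal.pow_right_mono ht k (by rwa [pow_mul] at hr))⟩

include hV hmsp hm'sp in
theorem IsVero.mem_gam_iff [IsNoetherianRing R] (h : IsVero ℳ ℳ' q g) (x : M') :
    g x ∈ gam m.toIdeal M ↔ x ∈ gam m'.toIdeal M' := by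
  rw [← gam_map_eq hV hmsp hm'sp]
  constructor
  · rintro ⟨k, hk⟩
    exact ⟨k, fun r hr => h.inj (by
      rw [map_smulₛₗ, map_zero]
      exact hk _ (by rw [← Ideal.map_pow]; exact Ideal.mem_map_of_mem _ hr))⟩
  · rintro ⟨k, hk⟩
    refine ⟨k, fun r hr => ?_⟩
    rw [← Ideal.map_pow] at hr
    induction hr using Submodule.span_induction with
    | mem z hz => obtain ⟨a, ha, rfl⟩ := hz; rw [← map_smulₛₗ, hk a ha, map_zero]
    | zero => rw [zero_smul]
    | add a b _ _ ha hb => rw [add_smul, ha, hb, add_zero]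
    | smul c a _ ha => rw [smul_eq_mul, mul_smul, ha, smul_zero]

include hV hmsp hm'sp in
theorem IsVero.retr_mem_gam [IsNoetherianRing R] (h : IsVero ℳ ℳ' q g) {x : M}
    (hx : x ∈ gam m.toIdeal M) : h.retr x ∈ gam m'.toIdeal M' := by
  rw [← gam_map_eq hV hmsp hm'sp] at hx
  obtain ⟨k, hk⟩ := hx
  exact ⟨k, fun r hr => by
    rw [← h.retr_smul hV, hk _ (by rw [← Ideal.map_pow]; exact Ideal.mem_map_of_mem _ hr), map_zero]⟩

end Irrelevant

end GrothGr.Vero
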